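import Groth.Agent.Lefpen.H710.BettiSys

/-!
# `ℓ`-adic Betti numbers and the orders of `H^i(X, ℤ/ℓ^ν)`

Let `X` be a scheme with `H^i(X, ℤ/ℓ)` finite for all `i`.  Then:
* `finite_Hmod`: all `H^i(X, ℤ/ℓ^ν)` are finite;
* `card_asymp`, `card_succ`, `card_bounded` (G1): growth of the orders, governed by `EtAdic.betti`;
* `exists_lift_pow` (G2): up to a fixed power of `ℓ`, all classes lift to the `ℓ`-adic cohomology `EtAdic.Hl`;
* `exists_torsion` (G3): the torsion of `EtAdic.Hl` is killed by a fixed power of `ℓ`;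
* `euler_eq`: the `ℓ`-adic Euler characteristic is the alternating sum of the `log_ℓ #H^i(X, ℤ/ℓ)`;
* `betti_eq_zero`: the Betti number vanishes if the groups do.
-/

set_option autoImplicit false
universe u

open CategoryTheory CategoryTheory.Limits AlgebraicGeometry Opposite CategoryTheory.Abelian

namespace Groth.Agent.Lefpen.H710.Betti

open Groth.Agent.Etrest.HPost BettiSys

variable (X : Scheme.{u}) (ℓ : ℕ)

theorem Hred_eq (i ν : ℕ) : EtAdic.Hred X ℓ i ν = red X ℓ i ν (ν + 1) (Nat.le_succ ν) := rfl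

theorem Hl_eq' (i : ℕ) : EtAdic.Hl X ℓ i = EllSys.HlG (fun ν => EtAdic.Hmod X ℓ i ν) (fun ν => EtAdic.Hred X ℓ i ν) := rfl

theorem betti_eq' (i : ℕ) :
    EtAdic.betti X ℓ i = EllSys.bettiG ℓ (fun ν => EtAdic.Hmod X ℓ i ν) (fun ν => EtAdic.Hred X ℓ i ν) := rfl

theorem mem_Hl (i : ℕ) (x : ∀ ν, EtAdic.Hmod X ℓ i ν) :
    x ∈ EtAdic.Hl X ℓ i ↔ ∀ ν, EtAdic.Hred X ℓ i ν (x (ν + 1)) = x ν := by
  rw [Hl_eq']
  exact EllSys.mem_HlG (fun ν => EtAdic.Hmod X ℓ i ν) (fun ν => EtAdic.Hred X ℓ i ν) x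

theorem betti_eq (i : ℕ) : EtAdic.betti X ℓ i = EllSys.betti' ℓ (A X ℓ) (red X ℓ) i := by
  rw [betti_eq', ← EllSys.bettiG_eq]
  rfl

end Groth.Agent.Lefpen.H710.Betti
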