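import Groth.Agent.Lefpen.H710.BettiSys
import Mathlib.Algebra.Exact

/-!
# Finiteness of `H^i(X, ℤ/ℓ^ν)` from `ν = 1`
-/

set_option autoImplicit false
universe u

open CategoryTheory CategoryTheory.Limits AlgebraicGeometry Opposite CategoryTheory.Abelian

namespace Groth.Agent.Lefpen.H710.BettiFin

open Groth.Agent.Etrest.HPost BettiSys

theorem finite_of_exact {P Q R : Type*} [AddCommGroup P] [AddCommGroup Q] [AddCommGroup R] (f : P →+ Q) (g : Q →+ R)
    (h : Function.Exact f g) [Finite P] [Finite R] : Finite Q := by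
  have h1 : Finite g.ker := by
    have h2 : (g.ker : Set Q) = Set.range f := by
      ext x
      exact h x
    have h3 : (Set.range f).Finite := Set.finite_range f
    rw [← h2] at h3
    exact h3
  have h4 : Finite (Q ⧸ g.ker) := Finite.of_injective _ (QuotientAddGroup.kerLift_injective g)
  have h5 : Nat.card Q ≠ 0 := by
    rw [AddSubgroup.card_eq_card_quotient_mul_card_addSubgroup g.ker]
    exact mul_ne_zero Nat.card_pos.ne' Nat.card_pos.ne'
  exact Nat.finite_of_card_ne_zero h5

theorem subsingleton_of_exact {P Q R : Type*} [AddCommGroup P] [AddCommGroup Q] [AddCommGroup R] (f : P →+ Q) (g : Q →+ R)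
    (h : Function.Exact f g) [Subsingleton P] [Subsingleton R] : Subsingleton Q := by
  refine ⟨fun x y => ?_⟩
  have h1 : ∀ x : Q, x = 0 := fun x => by
    obtain ⟨p, rfl⟩ := (h x).1 (Subsingleton.elim _ _)
    rw [Subsingleton.elim p 0, map_zero]
  rw [h1 x, h1 y]

variable (X : Scheme.{u}) (ℓ : ℕ)

theorem cm_zero {P Q : Type} [AddCommGroup P] [AddCommGroup Q] : cm X (0 : P →+ Q) = 0 := by
  have := additive_constantSheaf X
  unfold cm
  have h : ul.{u} (0 : P →+ Q) = 0 := rfl
  rw [h, Functor.map_zero]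

theorem cm_id {P : Type} [AddCommGroup P] : cm X (AddMonoidHom.id P) = 𝟙 _ := by
  unfold cm
  have h : ul.{u} (AddMonoidHom.id P) = 𝟙 _ := rfl
  rw [h, CategoryTheory.Functor.map_id]

variable {X} in
theorem post_zero {F G : EtCoh.Ab X} (n : ℕ) (x : EtCoh.H X F n) : post (0 : F ⟶ G) n x = 0 := by
  rw [post_apply, Ext.mk₀_zero, Ext.comp_zero]

theorem subsingleton_A_zero (i : ℕ) : Subsingleton (A X ℓ i 0) := by
  have h0 : Subsingleton (ZMod (ℓ ^ 0)) := by
    rw [pow_zero]
    infer_instance
  have h1 : AddMonoidHom.id (ZMod (ℓ ^ 0)) = 0 := by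
    ext x
    exact Subsingleton.elim _ _
  have h2 : ∀ x : A X ℓ i 0, x = 0 := fun x => by
    have h3 := post_id i x
    rw [← cm_id, h1, cm_zero, post_zero] at h3
    exact h3.symm
  exact ⟨fun x y => by rw [h2 x, h2 y]⟩

variable [hℓ : Fact ℓ.Prime]

theorem finite_A (h : ∀ i, Finite (A X ℓ i 1)) (i ν : ℕ) : Finite (A X ℓ i ν) := by
  induction ν with
  | zero =>
    have := subsingleton_A_zero X ℓ i
    infer_instance
  | succ ν ih =>
    have := h i
    exact finite_of_exact _ _ (exact₂ X ℓ i ν 1)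

theorem subsingleton_A (i : ℕ) (h : Subsingleton (A X ℓ i 1)) (ν : ℕ) : Subsingleton (A X ℓ i ν) := by
  induction ν with
  | zero => exact subsingleton_A_zero X ℓ i
  | succ ν ih => exact subsingleton_of_exact _ _ (exact₂ X ℓ i ν 1)

end Groth.Agent.Lefpen.H710.BettiFin
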