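import Groth.Agent.Lefpen.H710.EllSys
import Groth.Prelude.Def_LefMon
import Groth.Agent.Etrest.HPost
import Groth.Agent.Etrest.ConstBasic

/-!
# The `ℓ`-adic system of étale cohomology groups

For a scheme `X` with finite groups `H^i(X, ℤ/ℓ^ν)`, the groups `EtAdic.Hmod X ℓ i ν` form a system `EllSys.Sys`, whose Betti
numbers are `EtAdic.betti`.  Consequences:
* `card_succ`: `#H^i(X, ℤ/ℓ^(b+1)) = ℓ^(betti X ℓ i) · #H^i(X, ℤ/ℓ^b)` for large `b`;
* `euler_eq`: the `ℓ`-adic Euler characteristic is the alternating sum of `log_ℓ #H^i(X, ℤ/ℓ)`.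
-/

set_option autoImplicit false
universe u

open CategoryTheory CategoryTheory.Limits AlgebraicGeometry Opposite CategoryTheory.Abelian

namespace Groth.Agent.Lefpen.H710.BettiSys

open Groth.Agent.Etrest.HPost

section Groups

variable (ℓ : ℕ)

/-- reduction `ℤ/ℓ^b → ℤ/ℓ^a` -/
def R {a b : ℕ} (h : a ≤ b) : ZMod (ℓ ^ b) →+ ZMod (ℓ ^ a) :=
  (ZMod.castHom (pow_dvd_pow ℓ h) (ZMod (ℓ ^ a))).toAddMonoidHom

/-- multiplication by `ℓ^(b-a)`, `ℤ/ℓ^a → ℤ/ℓ^b` -/
def M {a b : ℕ} (h : a ≤ b) : ZMod (ℓ ^ a) →+ ZMod (ℓ ^ b) :=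
  ZMod.lift (ℓ ^ a) ⟨zmultiplesHom (ZMod (ℓ ^ b)) ((ℓ : ZMod (ℓ ^ b)) ^ (b - a)), by
    rw [zmultiplesHom_apply, natCast_zsmul, nsmul_eq_mul, Nat.cast_pow, ← pow_add, Nat.add_sub_cancel' h,
      ← Nat.cast_pow, ZMod.natCast_self]⟩

theorem R_intCast {a b : ℕ} (h : a ≤ b) (n : ℤ) : R ℓ h (n : ZMod (ℓ ^ b)) = n :=
  map_intCast (ZMod.castHom (pow_dvd_pow ℓ h) (ZMod (ℓ ^ a))) n

theorem M_intCast {a b : ℕ} (h : a ≤ b) (n : ℤ) : M ℓ h (n : ZMod (ℓ ^ a)) = ((ℓ ^ (b - a) * n : ℤ) : ZMod (ℓ ^ b)) := by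
  unfold M
  rw [ZMod.lift_coe]
  change zmultiplesHom (ZMod (ℓ ^ b)) ((ℓ : ZMod (ℓ ^ b)) ^ (b - a)) n = _
  rw [zmultiplesHom_apply, zsmul_eq_mul]
  push_cast
  ring

theorem intCast_eq_zero (a : ℕ) (n : ℤ) : (n : ZMod (ℓ ^ a)) = 0 ↔ (ℓ : ℤ) ^ a ∣ n := by
  rw [ZMod.intCast_zmod_eq_zero_iff_dvd]
  push_cast
  rfl

theorem R_surjective {a b : ℕ} (h : a ≤ b) : Function.Surjective (R ℓ h) := by
  intro x
  obtain ⟨n, rfl⟩ := ZMod.intCast_surjective x
  exact ⟨n, R_intCast ℓ h n⟩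

theorem M_injective (hℓ : 0 < ℓ) {a b : ℕ} (h : a ≤ b) : Function.Injective (M ℓ h) := by
  rw [injective_iff_map_eq_zero]
  intro x hx
  obtain ⟨n, rfl⟩ := ZMod.intCast_surjective x
  rw [M_intCast, intCast_eq_zero] at hx
  rw [intCast_eq_zero]
  have h1 : (ℓ : ℤ) ^ b = (ℓ : ℤ) ^ (b - a) * (ℓ : ℤ) ^ a := by rw [← pow_add, Nat.sub_add_cancel h]
  rw [h1] at hx
  exact (mul_dvd_mul_iff_left (pow_ne_zero _ (by exact_mod_cast hℓ.ne'))).1 hx

theorem RM_exact {a b c : ℕ} (ha : a ≤ c) (hb : b ≤ c) (h : a + b = c) :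
    Function.Exact (M ℓ ha) (R ℓ hb) := by
  have hab : c - a = b := by omega
  intro x
  obtain ⟨n, rfl⟩ := ZMod.intCast_surjective x
  rw [R_intCast, intCast_eq_zero]
  constructor
  · rintro ⟨m, rfl⟩
    exact ⟨m, by rw [M_intCast, hab]⟩
  · rintro ⟨y, hy⟩
    obtain ⟨m, rfl⟩ := ZMod.intCast_surjective y
    rw [M_intCast, hab, ← sub_eq_zero, ← Int.cast_sub, intCast_eq_zero] at hy
    have h1 : (ℓ : ℤ) ^ b ∣ ℓ ^ b * m - n := (pow_dvd_pow _ hb).trans hy
    exact (dvd_sub_right (dvd_mul_right _ _)).1 h1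

theorem R_R {a b c : ℕ} (h : a ≤ b) (h' : b ≤ c) : (R ℓ h).comp (R ℓ h') = R ℓ (h.trans h') := by
  ext x
  obtain ⟨n, rfl⟩ := ZMod.intCast_surjective x
  simp only [AddMonoidHom.comp_apply, R_intCast]

theorem R_M {a a' b c c' : ℕ} (ha : a ≤ c) (ha' : a' ≤ c') (h : a ≤ a') (hc : c ≤ c') (e : a + b = c)
    (e' : a' + b = c') : (R ℓ hc).comp (M ℓ ha') = (M ℓ ha).comp (R ℓ h) := by
  have h1 : c - a = b := by omega
  have h2 : c' - a' = b := by omega
  ext x
  obtain ⟨n, rfl⟩ := ZMod.intCast_surjective x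
  simp only [AddMonoidHom.comp_apply, R_intCast, M_intCast, h1, h2]

theorem M_R {a b c : ℕ} (ha : a ≤ c) (e : a + b = c) :
    (M ℓ ha).comp (R ℓ ha) = ((ℓ : ℤ) ^ b) • (AddMonoidHom.id (ZMod (ℓ ^ c))) := by
  have h1 : c - a = b := by omega
  ext x
  obtain ⟨n, rfl⟩ := ZMod.intCast_surjective x
  simp only [AddMonoidHom.comp_apply, R_intCast, M_intCast, h1]
  rw [AddMonoidHom.smul_apply, AddMonoidHom.id_apply, zsmul_eq_mul]
  push_cast
  rfl

end Groups

section Sheaves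

variable (X : Scheme.{u})

/-- a homomorphism, one universe up. -/
def ul {A B : Type} [AddCommGroup A] [AddCommGroup B] (φ : A →+ B) :
    AddCommGrpCat.of (ULift.{u + 1} A) ⟶ AddCommGrpCat.of (ULift.{u + 1} B) :=
  AddCommGrpCat.ofHom ((AddEquiv.ulift.symm.toAddMonoidHom.comp φ).comp AddEquiv.ulift.toAddMonoidHom)

theorem ul_apply {A B : Type} [AddCommGroup A] [AddCommGroup B] (φ : A →+ B) (x : ULift.{u + 1} A) :
    (ul.{u} φ).hom x = ULift.up (φ x.down) := rfl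

theorem ul_comp {A B C : Type} [AddCommGroup A] [AddCommGroup B] [AddCommGroup C] (φ : A →+ B) (ψ : B →+ C) :
    ul.{u} φ ≫ ul.{u} ψ = ul.{u} (ψ.comp φ) := rfl

/-- the map of constant sheaves induced by a homomorphism -/
noncomputable def cm {A B : Type} [AddCommGroup A] [AddCommGroup B] (φ : A →+ B) :
    EtCoh.const X A ⟶ EtCoh.const X B :=
  (constantSheaf X.smallEtaleTopology AddCommGrpCat.{u + 1}).map (ul.{u} φ)

theorem cm_comp {A B C : Type} [AddCommGroup A] [AddCommGroup B] [AddCommGroup C] (φ : A →+ B) (ψ : B →+ C) :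
    cm X φ ≫ cm X ψ = cm X (ψ.comp φ) := by
  unfold cm
  rw [← Functor.map_comp, ul_comp]

theorem additive_constantSheaf : (constantSheaf X.smallEtaleTopology AddCommGrpCat.{u + 1}).Additive := by
  unfold constantSheaf
  infer_instance

theorem preservesFiniteLimits_constantSheaf :
    PreservesFiniteLimits (constantSheaf X.smallEtaleTopology AddCommGrpCat.{u + 1}) := by
  delta constantSheaf
  infer_instance

theorem preservesFiniteColimits_constantSheaf :
    PreservesFiniteColimits (constantSheaf X.smallEtaleTopology AddCommGrpCat.{u + 1}) := by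
  have : PreservesColimitsOfSize.{0, 0} (constantSheaf X.smallEtaleTopology AddCommGrpCat.{u + 1}) :=
    (EtCore.constAdj X).leftAdjoint_preservesColimits
  exact PreservesColimitsOfSize.preservesFiniteColimits _

theorem ul_zsmul_id {A : Type} [AddCommGroup A] (n : ℤ) :
    ul.{u} (n • AddMonoidHom.id A) = n • 𝟙 (AddCommGrpCat.of (ULift.{u + 1} A)) := by
  ext x
  rfl

theorem cm_zsmul_id {A : Type} [AddCommGroup A] (n : ℤ) :
    cm X (n • AddMonoidHom.id A) = n • 𝟙 (EtCoh.const X A) := by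
  have := additive_constantSheaf X
  unfold cm
  rw [ul_zsmul_id, Functor.map_zsmul, CategoryTheory.Functor.map_id]

/-- a short exact sequence of groups gives one of constant sheaves. -/
theorem exists_shortExact {A B C : Type} [AddCommGroup A] [AddCommGroup B] [AddCommGroup C] (φ : A →+ B) (ψ : B →+ C)
    (h1 : Function.Injective φ) (h2 : Function.Exact φ ψ) (h3 : Function.Surjective ψ) :
    ∃ w : cm X φ ≫ cm X ψ = 0, (ShortComplex.mk (cm X φ) (cm X ψ) w).ShortExact := by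
  have := preservesFiniteLimits_constantSheaf X
  have := preservesFiniteColimits_constantSheaf X
  have := additive_constantSheaf X
  have w0 : ul.{u} φ ≫ ul.{u} ψ = 0 := by
    rw [ul_comp]
    exact AddCommGrpCat.hom_ext (AddMonoidHom.ext fun x => congrArg ULift.up (h2.apply_apply_eq_zero x.down))
  have h0 : (ShortComplex.mk (ul.{u} φ) (ul.{u} ψ) w0).ShortExact :=
    { exact := by
        rw [ShortComplex.ab_exact_iff]
        intro x hx
        have hx' : ψ x.down = 0 := congrArg ULift.down hx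
        obtain ⟨y, hy⟩ := (h2 x.down).1 hx'
        exact ⟨ULift.up y, congrArg ULift.up hy⟩
      mono_f := by
        rw [AddCommGrpCat.mono_iff_injective]
        intro x y h
        exact ULift.down_injective (h1 (congrArg ULift.down h))
      epi_g := by
        rw [AddCommGrpCat.epi_iff_surjective]
        intro y
        obtain ⟨x, hx⟩ := h3 y.down
        exact ⟨ULift.up x, congrArg ULift.up hx⟩ }
  exact ⟨_, h0.map_of_exact (constantSheaf X.smallEtaleTopology AddCommGrpCat.{u + 1})⟩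

end Sheaves

section System

variable (X : Scheme.{u}) (ℓ : ℕ) [hℓ : Fact ℓ.Prime]

theorem cmw {a b c : ℕ} (ha : a ≤ c) (hb : b ≤ c) (h : a + b = c) :
    cm X (M ℓ ha) ≫ cm X (R ℓ hb) = 0 :=
  (exists_shortExact X (M ℓ ha) (R ℓ hb) (M_injective ℓ hℓ.out.pos ha) (RM_exact ℓ ha hb h)
    (R_surjective ℓ hb)).choose

/-- `0 → ℤ/ℓ^a → ℤ/ℓ^(a+b) → ℤ/ℓ^b → 0` -/
noncomputable abbrev seq (a b : ℕ) : ShortComplex (EtCoh.Ab X) :=
  ShortComplex.mk (cm X (M ℓ (Nat.le_add_right a b))) (cm X (R ℓ (Nat.le_add_left b a)))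
    (cmw X ℓ (Nat.le_add_right a b) (Nat.le_add_left b a) rfl)

theorem seq_shortExact (a b : ℕ) : (seq X ℓ a b).ShortExact :=
  (exists_shortExact X (M ℓ (Nat.le_add_right a b)) (R ℓ (Nat.le_add_left b a)) (M_injective ℓ hℓ.out.pos _)
    (RM_exact ℓ _ _ rfl) (R_surjective ℓ _)).choose_spec

/-- the morphism of sequences -/
noncomputable def seqMap {a a' : ℕ} (h : a ≤ a') (b : ℕ) : seq X ℓ a' b ⟶ seq X ℓ a b where
  τ₁ := cm X (R ℓ h)
  τ₂ := cm X (R ℓ (Nat.add_le_add_right h b))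
  τ₃ := 𝟙 _
  comm₁₂ := by
    change cm X (R ℓ h) ≫ cm X (M ℓ _) = cm X (M ℓ _) ≫ cm X (R ℓ _)
    rw [cm_comp, cm_comp, R_M ℓ (Nat.le_add_right a b) (Nat.le_add_right a' b) h (Nat.add_le_add_right h b) rfl rfl]
  comm₂₃ := by
    change cm X (R ℓ _) ≫ cm X (R ℓ _) = cm X (R ℓ _) ≫ 𝟙 _
    rw [cm_comp, R_R, Category.comp_id]

theorem mono_cm (a c : ℕ) (h : a ≤ c) : Mono (cm X (M ℓ h)) := by
  have h2 : Function.Injective (M ℓ h) := M_injective ℓ hℓ.out.pos h
  have := preservesFiniteLimits_constantSheaf X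
  have : Mono (ul.{u} (M ℓ h)) := by
    rw [AddCommGrpCat.mono_iff_injective]
    intro x y hxy
    exact ULift.down_injective (h2 (congrArg ULift.down hxy))
  unfold cm
  infer_instance

end System

section Cohomology

variable {X : Scheme.{u}}

theorem conn_naturality {S S' : ShortComplex (EtCoh.Ab X)} (hS : S.ShortExact) (hS' : S'.ShortExact) (φ : S ⟶ S')
    (n : ℕ) (x : EtCoh.H X S.X₃ n) : post φ.τ₁ (n + 1) (conn hS n x) = conn hS' n (post φ.τ₃ n x) := by
  change (Ext.comp (Ext.comp x hS.extClass rfl) (Ext.mk₀ φ.τ₁) (add_zero (n + 1))) =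
    Ext.comp (Ext.comp x (Ext.mk₀ φ.τ₃) (add_zero n)) hS'.extClass rfl
  rw [Ext.comp_assoc x _ _ (add_zero n) (zero_add 1) (by omega),
    Ext.comp_assoc x _ _ rfl (add_zero 1) (by omega), ShortComplex.ShortExact.extClass_naturality hS hS' φ]

theorem post_zsmul_id {F : EtCoh.Ab X} (m : ℤ) (n : ℕ) (x : EtCoh.H X F n) : post (m • 𝟙 F) n x = m • x := by
  have h : Ext.mk₀ (m • 𝟙 F) = m • Ext.mk₀ (𝟙 F) := map_zsmul Ext.addEquiv₀.symm m (𝟙 F)
  have h2 : Ext.comp x (m • Ext.mk₀ (𝟙 F)) (add_zero n) = m • Ext.comp x (Ext.mk₀ (𝟙 F)) (add_zero n) :=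
    map_zsmul (Ext.bilinearComp _ F F n 0 n (add_zero n) x) m (Ext.mk₀ (𝟙 F))
  rw [post_apply, h, h2, Ext.comp_mk₀_id]

end Cohomology

section System

variable (X : Scheme.{u}) (ℓ : ℕ)

/-- the groups -/
abbrev A (i ν : ℕ) : Type (u + 1) := EtAdic.Hmod X ℓ i ν

/-- reductions -/
noncomputable def red (i a b : ℕ) (h : a ≤ b) : A X ℓ i b →+ A X ℓ i a := post (cm X (R ℓ h)) i

/-- multiplications -/
noncomputable def mul (i a b : ℕ) (h : a ≤ b) : A X ℓ i a →+ A X ℓ i b := post (cm X (M ℓ h)) i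

variable [hℓ : Fact ℓ.Prime]

/-- connecting maps -/
noncomputable def del (i a b : ℕ) : A X ℓ i b →+ A X ℓ (i + 1) a := conn (seq_shortExact X ℓ a b) i

omit hℓ in
theorem red_red (i a b c : ℕ) (h : a ≤ b) (h' : b ≤ c) (x : A X ℓ i c) :
    red X ℓ i a b h (red X ℓ i b c h' x) = red X ℓ i a c (h.trans h') x := by
  unfold red
  rw [post_comp, cm_comp, R_R]

theorem exact₂ (i a b : ℕ) :
    Function.Exact (mul X ℓ i a (a + b) (Nat.le_add_right a b)) (red X ℓ i b (a + b) (Nat.le_add_left b a)) :=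
  exact_fg (seq_shortExact X ℓ a b) i

theorem exact₃ (i a b : ℕ) : Function.Exact (red X ℓ i b (a + b) (Nat.le_add_left b a)) (del X ℓ i a b) :=
  exact_gd (seq_shortExact X ℓ a b) i

theorem exact₁ (i a b : ℕ) : Function.Exact (del X ℓ i a b) (mul X ℓ (i + 1) a (a + b) (Nat.le_add_right a b)) :=
  exact_df (seq_shortExact X ℓ a b) i

theorem red_del (i a a' : ℕ) (h : a ≤ a') (b : ℕ) (x : A X ℓ i b) :
    red X ℓ (i + 1) a a' h (del X ℓ i a' b x) = del X ℓ i a b x := by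
  have h1 := conn_naturality (seq_shortExact X ℓ a' b) (seq_shortExact X ℓ a b) (seqMap X ℓ h b) i x
  refine h1.trans ?_
  have h2 : post (seqMap X ℓ h b).τ₃ i x = x := post_id _ _
  rw [h2]
  rfl

omit hℓ in
theorem red_mul (i a a' b : ℕ) (h : a ≤ a') (x : A X ℓ i a') :
    red X ℓ i (a + b) (a' + b) (Nat.add_le_add_right h b) (mul X ℓ i a' (a' + b) (Nat.le_add_right a' b) x) =
      mul X ℓ i a (a + b) (Nat.le_add_right a b) (red X ℓ i a a' h x) := by
  unfold red mul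
  rw [post_comp, post_comp, cm_comp, cm_comp, R_M ℓ (Nat.le_add_right a b) (Nat.le_add_right a' b) h
    (Nat.add_le_add_right h b) rfl rfl]

omit hℓ in
theorem mul_red (i a b : ℕ) (x : A X ℓ i (a + b)) :
    mul X ℓ i a (a + b) (Nat.le_add_right a b) (red X ℓ i a (a + b) (Nat.le_add_right a b) x) = ((ℓ : ℤ) ^ b) • x := by
  unfold red mul
  rw [post_comp, cm_comp, M_R ℓ (Nat.le_add_right a b) rfl, cm_zsmul_id, post_zsmul_id]

theorem mul_zero_injective (a c : ℕ) (h : a ≤ c) : Function.Injective (mul X ℓ 0 a c h) := by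
  have := mono_cm X ℓ a c h
  exact post_injective _

variable {X ℓ} in
/-- The groups `H^i(X, ℤ/ℓ^ν)` form a system. -/
theorem isSys (hfin : ∀ i ν, Finite (A X ℓ i ν)) : EllSys.IsSys ℓ (A X ℓ) (red X ℓ) (mul X ℓ) (del X ℓ) where
  fin := hfin
  red_red := red_red X ℓ
  exact₂ := exact₂ X ℓ
  exact₃ := exact₃ X ℓ
  exact₁ := exact₁ X ℓ
  red_del := red_del X ℓ
  red_mul := red_mul X ℓ
  mul_red := mul_red X ℓ
  mul_zero_injective := mul_zero_injective X ℓ

end System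

end Groth.Agent.Lefpen.H710.BettiSys
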