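import Mathlib

/-!
# Sequences of natural numbers with eventual ratio `ℓ ^ β`
-/

set_option autoImplicit false

namespace Groth.Agent.Lefpen.H710.Grows

/-- `a (b + 1) = ℓ ^ β * a b` for large `b`. -/
def Grows (ℓ : ℕ) (a : ℕ → ℕ) (β : ℕ) : Prop := ∃ B, ∀ b, B ≤ b → a (b + 1) = ℓ ^ β * a b

variable {ℓ : ℕ}

theorem unique (hℓ : 1 < ℓ) {a : ℕ → ℕ} {β γ : ℕ} (h1 : Grows ℓ a β) (h2 : Grows ℓ a γ)
    (ha : ∀ b, 0 < a b) : β = γ := by
  obtain ⟨B, hB⟩ := h1
  obtain ⟨C, hC⟩ := h2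
  have h3 := (hB (max B C) (le_max_left _ _)).symm.trans (hC (max B C) (le_max_right _ _))
  exact Nat.pow_right_injective hℓ (Nat.eq_of_mul_eq_mul_right (ha _) h3)

theorem mul {a a' : ℕ → ℕ} {β β' : ℕ} (h : Grows ℓ a β) (h' : Grows ℓ a' β') :
    Grows ℓ (fun b => a b * a' b) (β + β') := by
  obtain ⟨B, hB⟩ := h
  obtain ⟨C, hC⟩ := h'
  refine ⟨max B C, fun b hb => ?_⟩
  have h1 := hB b ((le_max_left _ _).trans hb)
  have h2 := hC b ((le_max_right _ _).trans hb)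
  simp only [h1, h2, pow_add]
  ring

theorem one : Grows ℓ (fun _ => 1) 0 := ⟨0, fun b _ => by simp⟩

theorem prod {ι : Type*} (s : Finset ι) {a : ι → ℕ → ℕ} {β : ι → ℕ} (h : ∀ i ∈ s, Grows ℓ (a i) (β i)) :
    Grows ℓ (fun b => ∏ i ∈ s, a i b) (∑ i ∈ s, β i) := by
  classical
  induction s using Finset.induction_on with
  | empty => simpa using one
  | insert i s hi ih =>
    have h1 := mul (h i (Finset.mem_insert_self _ _)) (ih fun j hj => h j (Finset.mem_insert_of_mem hj))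
    simpa only [Finset.prod_insert hi, Finset.sum_insert hi] using h1

theorem congr {a a' : ℕ → ℕ} {β : ℕ} (h : Grows ℓ a β) (e : ∀ b, a' b = a b) : Grows ℓ a' β := by
  rwa [show a' = a from funext e]

/-- Sums over `{j : Fin c // p j}`. -/
theorem sum_subtype_fin (c : ℕ) (p : ℕ → Prop) [DecidablePred p] (g : ℕ → ℕ) :
    ∑ j : {j : Fin c // p j.1}, g j.1.1 = ∑ j ∈ (Finset.range c).filter p, g j := by
  rw [Finset.sum_filter, Finset.sum_range, ← Finset.sum_filter]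
  exact (Finset.sum_subtype (Finset.univ.filter fun j : Fin c => p j.1) (by simp) fun j => g j.1).symm

/-- The Euler characteristic computation. -/
theorem euler_sum (c n : ℕ) (hc : c + 1 ≤ n) (β' β z : ℕ → ℕ)
    (h : ∀ q, β' q = β q + ∑ j ∈ (Finset.range c).filter (fun j => 2 * (j + 1) ≤ q), z (q - 2 * (j + 1)))
    (hz : ∀ p, 2 * (n - (c + 1)) < p → z p = 0) :
    ∑ i ∈ Finset.range (2 * n + 1), (-1 : ℤ) ^ i * (β' i : ℤ) =
      ∑ i ∈ Finset.range (2 * n + 1), (-1 : ℤ) ^ i * (β i : ℤ) +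
        (c : ℤ) * ∑ i ∈ Finset.range (2 * n + 1), (-1 : ℤ) ^ i * (z i : ℤ) := by
  have h1 : ∀ i, (-1 : ℤ) ^ i * (β' i : ℤ) = (-1 : ℤ) ^ i * (β i : ℤ) +
      ∑ j ∈ Finset.range c, if 2 * (j + 1) ≤ i then (-1 : ℤ) ^ i * (z (i - 2 * (j + 1)) : ℤ) else 0 := by
    intro i
    rw [h i, Nat.cast_add, Nat.cast_sum, mul_add, Finset.mul_sum, Finset.sum_filter]
  rw [Finset.sum_congr rfl fun i _ => h1 i, Finset.sum_add_distrib, Finset.sum_comm]
  congr 1
  have h2 : ∀ j ∈ Finset.range c, (∑ i ∈ Finset.range (2 * n + 1),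
      if 2 * (j + 1) ≤ i then (-1 : ℤ) ^ i * (z (i - 2 * (j + 1)) : ℤ) else 0) =
      ∑ i ∈ Finset.range (2 * n + 1), (-1 : ℤ) ^ i * (z i : ℤ) := by
    intro j hj
    rw [Finset.mem_range] at hj
    rw [← Finset.sum_filter]
    have h3 : (Finset.range (2 * n + 1)).filter (fun i => 2 * (j + 1) ≤ i) =
        (Finset.range (2 * n + 1 - 2 * (j + 1))).image (fun i => i + 2 * (j + 1)) := by
      ext i
      simp only [Finset.mem_filter, Finset.mem_range, Finset.mem_image]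
      constructor
      · rintro ⟨h4, h5⟩
        exact ⟨i - 2 * (j + 1), by omega, by omega⟩
      · rintro ⟨a, ha, rfl⟩
        omega
    rw [h3, Finset.sum_image (fun a _ b _ hab => Nat.add_right_cancel hab)]
    have h4 : ∀ i, (-1 : ℤ) ^ (i + 2 * (j + 1)) * (z (i + 2 * (j + 1) - 2 * (j + 1)) : ℤ) =
        (-1 : ℤ) ^ i * (z i : ℤ) := by
      intro i
      rw [Nat.add_sub_cancel, pow_add, pow_mul]
      simp
    rw [Finset.sum_congr rfl fun i _ => h4 i]
    refine Finset.sum_subset (Finset.range_mono (by omega)) fun i hi hi' => ?_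
    rw [Finset.mem_range] at hi hi'
    rw [hz i (by omega)]
    simp
  rw [Finset.sum_congr rfl h2, Finset.sum_const, Finset.card_range, nsmul_eq_mul]

end Groth.Agent.Lefpen.H710.Grows
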