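import Groth.Agent.Lefpen.H710.Growth
import Groth.Agent.Lefpen.H710.Grows

/-!
# Betti numbers from additive decompositions of `H^q(X', ℤ/ℓ^ν)`
-/

set_option autoImplicit false
universe u

open CategoryTheory CategoryTheory.Limits AlgebraicGeometry Opposite CategoryTheory.Abelian

namespace Groth.Agent.Lefpen.H710.Blow

variable (ℓ : ℕ) [hℓ : Fact ℓ.Prime]

theorem grows_Hmod (X : Scheme.{u}) (hfin : ∀ i, Finite (EtAdic.Hmod X ℓ i 1)) (i : ℕ) :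
    Grows.Grows ℓ (fun b => Nat.card (EtAdic.Hmod X ℓ i b)) (EtAdic.betti X ℓ i) :=
  Growth.card_succ X ℓ hfin i

theorem card_pos (X : Scheme.{u}) (hfin : ∀ i, Finite (EtAdic.Hmod X ℓ i 1)) (i b : ℕ) :
    0 < Nat.card (EtAdic.Hmod X ℓ i b) := by
  have := Growth.finite_Hmod X ℓ hfin i b
  exact Nat.card_pos

theorem card_decomp {A B : Type*} {ι : Type*} [Fintype ι] {C : ι → Type*} (e : A ≃ B × (∀ j, C j)) :
    Nat.card A = Nat.card B * ∏ j, Nat.card (C j) := by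
  rw [Nat.card_congr e, Nat.card_prod, Nat.card_pi]

/-- The Betti numbers of a blow-up. -/
theorem betti_eq {X' X Z : Scheme.{u}} (c q : ℕ)
    (hX' : ∀ i, Finite (EtAdic.Hmod X' ℓ i 1)) (hX : ∀ i, Finite (EtAdic.Hmod X ℓ i 1))
    (hZ : ∀ i, Finite (EtAdic.Hmod Z ℓ i 1))
    (h : ∀ ν, Nat.card (EtAdic.Hmod X' ℓ q ν) = Nat.card (EtAdic.Hmod X ℓ q ν) *
      ∏ j : {j : Fin c // 2 * (j.1 + 1) ≤ q}, Nat.card (EtAdic.Hmod Z ℓ (q - 2 * (j.1.1 + 1)) ν)) :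
    EtAdic.betti X' ℓ q = EtAdic.betti X ℓ q +
      ∑ j ∈ (Finset.range c).filter (fun j => 2 * (j + 1) ≤ q), EtAdic.betti Z ℓ (q - 2 * (j + 1)) := by
  rw [← Grows.sum_subtype_fin c (fun j => 2 * (j + 1) ≤ q) (fun j => EtAdic.betti Z ℓ (q - 2 * (j + 1)))]
  refine Grows.unique hℓ.out.one_lt (grows_Hmod ℓ X' hX' q) ?_ (card_pos ℓ X' hX' q)
  exact Grows.congr (Grows.mul (grows_Hmod ℓ X hX q)
    (Grows.prod Finset.univ fun j _ => grows_Hmod ℓ Z hZ (q - 2 * (j.1.1 + 1)))) h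

end Groth.Agent.Lefpen.H710.Blow
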