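import Groth.Agent.Lefpen.H710.Herbrand
import Mathlib.CategoryTheory.CofilteredSystem
import Mathlib.CategoryTheory.Functor.OfSequence
import Mathlib.Algebra.Group.Subgroup.Finite

/-!
# `ℓ`-adic systems of finite groups with Bockstein sequences

An abstract version of the system `A i ν = H^i(X, ℤ/ℓ^ν)` with its reductions, multiplications and connecting
maps; `T i = lim_ν A i ν`.  We prove `#A i b = #(T_i/ℓ^b) · #T_{i+1}[ℓ^b]` and deduce that `#A i b = ℓ^(r b) C` for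
large `b`, with `r` the "Betti number" of `T_i`.
-/

set_option autoImplicit false

universe w

open CategoryTheory Opposite

namespace Groth.Agent.Lefpen.H710.EllSys

open Herbrand

/-- a sequence of nonempty finite types has a compatible family. -/
theorem exists_seq (F : ℕ → Type w) [∀ n, Finite (F n)] [∀ n, Nonempty (F n)] (p : ∀ n, F (n + 1) → F n) :
    ∃ x : ∀ n, F n, ∀ n, p n (x (n + 1)) = x n := by
  let G : ℕᵒᵖ ⥤ Type w := Functor.ofOpSequence (X := F) (fun n => ↾(p n))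
  have h1 : ∀ j : ℕᵒᵖ, Finite (G.obj j) := fun j => (inferInstance : Finite (F j.unop))
  have h2 : ∀ j : ℕᵒᵖ, Nonempty (G.obj j) := fun j => (inferInstance : Nonempty (F j.unop))
  obtain ⟨s, hs⟩ := nonempty_sections_of_finite_inverse_system G
  refine ⟨fun n => s (op n), fun n => ?_⟩
  have h := hs (homOfLE (Nat.le_succ n)).op
  have h3 : G.map (homOfLE (Nat.le_succ n)).op = ↾(p n) := Functor.ofOpSequence_map_homOfLE_succ _ n
  rw [h3] at h
  exact h

/-- An abstract `ℓ`-adic system. -/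
structure Sys (ℓ : ℕ) where
  /-- the groups -/
  A : ℕ → ℕ → Type w
  /-- group structure -/
  [grp : ∀ i ν, AddCommGroup (A i ν)]
  /-- finiteness -/
  [fin : ∀ i ν, Finite (A i ν)]
  /-- reduction -/
  red : ∀ (i : ℕ) {a b : ℕ}, a ≤ b → A i b →+ A i a
  /-- multiplication by `ℓ ^ (b - a)` -/
  mul : ∀ (i : ℕ) {a b : ℕ}, a ≤ b → A i a →+ A i b
  /-- connecting maps -/
  del : ∀ (i a b : ℕ), A i b →+ A (i + 1) a
  red_red : ∀ (i : ℕ) {a b c : ℕ} (h : a ≤ b) (h' : b ≤ c) (x : A i c), red i h (red i h' x) = red i (h.trans h') x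
  exact₂ : ∀ (i : ℕ) (a b c : ℕ) (ha : a ≤ c) (hb : b ≤ c), a + b = c → ∀ x : A i c,
    red i hb x = 0 ↔ ∃ y, mul i ha y = x
  exact₃ : ∀ (i : ℕ) (a b c : ℕ) (hb : b ≤ c), a + b = c → ∀ x : A i b, del i a b x = 0 ↔ ∃ y, red i hb y = x
  exact₁ : ∀ (i : ℕ) (a b c : ℕ) (ha : a ≤ c), a + b = c → ∀ x : A (i + 1) a,
    mul (i + 1) ha x = 0 ↔ ∃ y, del i a b y = x
  red_del : ∀ (i : ℕ) {a a' : ℕ} (h : a ≤ a') (b : ℕ) (x : A i b), red (i + 1) h (del i a' b x) = del i a b x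
  red_mul : ∀ (i : ℕ) (a a' b c c' : ℕ) (ha : a ≤ c) (ha' : a' ≤ c') (h : a ≤ a') (hc : c ≤ c'),
    a + b = c → a' + b = c' → ∀ x, red i hc (mul i ha' x) = mul i ha (red i h x)
  mul_red : ∀ (i : ℕ) (a b c : ℕ) (ha : a ≤ c), a + b = c → ∀ x : A i c, mul i ha (red i ha x) = ((ℓ : ℤ) ^ b) • x
  mul_zero_injective : ∀ {a c : ℕ} (h : a ≤ c), Function.Injective (mul 0 h)

attribute [instance] Sys.grp Sys.fin

namespace Sys

variable {ℓ : ℕ} (S : Sys.{w} ℓ)

/-- the inverse limit -/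
def T (i : ℕ) : AddSubgroup (∀ ν, S.A i ν) where
  carrier := {x | ∀ ν, S.red i (Nat.le_succ ν) (x (ν + 1)) = x ν}
  add_mem' := fun {x y} hx hy ν => by
    simp only [Pi.add_apply, map_add]
    rw [hx ν, hy ν]
  zero_mem' := fun ν => by simp
  neg_mem' := fun {x} hx ν => by
    simp only [Pi.neg_apply, map_neg]
    rw [hx ν]

theorem red_mem {i : ℕ} {x : ∀ ν, S.A i ν} (hx : x ∈ S.T i) {a b : ℕ} (h : a ≤ b) : S.red i h (x b) = x a := by
  induction b, h using Nat.le_induction with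
  | base =>
    have h1 := hx a
    rw [← h1, S.red_red]
  | succ b h ih =>
    rw [← ih, ← hx b, S.red_red]

theorem mem_T_of {i : ℕ} {x : ∀ ν, S.A i ν} (h : ∀ ν, S.red i (Nat.le_succ ν) (x (ν + 1)) = x ν) : x ∈ S.T i := h

theorem pow_smul_coord {i : ℕ} {y : ∀ ν, S.A i ν} (hy : y ∈ S.T i) (b : ℕ) : ((ℓ : ℤ) ^ b) • y b = 0 := by
  have h1 : y b = S.red i (Nat.le_add_left b b) (y (b + b)) := (S.red_mem hy _).symm
  rw [h1, ← map_zsmul, ← S.mul_red i b b (b + b) (Nat.le_add_right b b) rfl]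
  exact (S.exact₂ i b b (b + b) (Nat.le_add_right b b) (Nat.le_add_left b b) rfl _).2 ⟨_, rfl⟩

theorem exists_of_coord_eq_zero {i b : ℕ} (x : S.T i) (hx : x.1 b = 0) : ∃ y : S.T i, ((ℓ : ℤ) ^ b) • y = x := by
  let F : ℕ → Type w := fun a => {y : S.A i a // S.mul i (Nat.le_add_right a b) y = x.1 (a + b)}
  have hne : ∀ a, Nonempty (F a) := fun a => by
    have h1 := S.red_mem x.2 (Nat.le_add_left b a)
    rw [hx] at h1
    obtain ⟨y, hy⟩ := (S.exact₂ i a b (a + b) (Nat.le_add_right a b) (Nat.le_add_left b a) rfl _).1 h1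
    exact ⟨⟨y, hy⟩⟩
  have hfin : ∀ a, Finite (F a) := fun a => Subtype.finite
  obtain ⟨z, hz⟩ := exists_seq F (fun a y => ⟨S.red i (Nat.le_succ a) y.1, by
    have h1 := S.red_mul i a (a + 1) b (a + b) (a + 1 + b) (Nat.le_add_right a b) (Nat.le_add_right (a + 1) b)
      (Nat.le_succ a) (by omega) rfl rfl y.1
    rw [← h1, y.2, S.red_mem x.2]⟩)
  have hzT : (fun a => (z a).1) ∈ S.T i := fun ν => congrArg Subtype.val (hz ν)
  refine ⟨⟨_, hzT⟩, Subtype.ext (funext fun a => ?_)⟩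
  change ((ℓ : ℤ) ^ b) • (z a).1 = x.1 a
  have h3 : ((ℓ : ℤ) ^ b) • (z (a + b)).1 = x.1 (a + b) := by
    rw [← S.mul_red i a b (a + b) (Nat.le_add_right a b) rfl]
    have h4 : S.red i (Nat.le_add_right a b) (z (a + b)).1 = (z a).1 := S.red_mem hzT (Nat.le_add_right a b)
    rw [h4]
    exact (z a).2
  have h5 : S.red i (Nat.le_add_right a b) (z (a + b)).1 = (z a).1 := S.red_mem hzT (Nat.le_add_right a b)
  rw [← h5, ← map_zsmul, h3, S.red_mem x.2]

theorem exists_lift {i b : ℕ} (z : S.A i b) (hz : ∀ a, S.del i a b z = 0) : ∃ x : S.T i, x.1 b = z := by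
  let F : ℕ → Type w := fun a => {w : S.A i (a + b) // S.red i (Nat.le_add_left b a) w = z}
  have hne : ∀ a, Nonempty (F a) := fun a => by
    obtain ⟨y, hy⟩ := (S.exact₃ i a b (a + b) (Nat.le_add_left b a) rfl z).1 (hz a)
    exact ⟨⟨y, hy⟩⟩
  have hfin : ∀ a, Finite (F a) := fun a => Subtype.finite
  obtain ⟨x, hx⟩ := exists_seq F (fun a y => ⟨S.red i (by omega : a + b ≤ a + 1 + b) y.1, by
    rw [S.red_red]
    exact y.2⟩)
  have hxT : (fun a => S.red i (Nat.le_add_right a b) (x a).1) ∈ S.T i := fun ν => by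
    change S.red i (Nat.le_succ ν) (S.red i (Nat.le_add_right (ν + 1) b) (x (ν + 1)).1) =
      S.red i (Nat.le_add_right ν b) (x ν).1
    have h1 : S.red i (by omega : ν + b ≤ ν + 1 + b) (x (ν + 1)).1 = (x ν).1 := congrArg Subtype.val (hx ν)
    rw [← h1, S.red_red, S.red_red]
  exact ⟨⟨_, hxT⟩, (x b).2⟩

/-- the projection `T i → A i b` -/
def proj (i b : ℕ) : S.T i →+ S.A i b := (Pi.evalAddMonoidHom (fun ν => S.A i ν) b).comp (S.T i).subtype

/-- the connecting map `A i b → T (i + 1)` -/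
def Del (i b : ℕ) : S.A i b →+ S.T (i + 1) where
  toFun z := ⟨fun a => S.del i a b z, fun _ => S.red_del i _ b z⟩
  map_zero' := Subtype.ext (funext fun _ => map_zero _)
  map_add' _ _ := Subtype.ext (funext fun _ => map_add _ _ _)

theorem ker_proj (i b : ℕ) : (S.proj i b).ker = (mulHom (S.T i) ((ℓ : ℤ) ^ b)).range := by
  ext x
  constructor
  · intro hx
    obtain ⟨y, hy⟩ := S.exists_of_coord_eq_zero x hx
    exact ⟨y, hy⟩
  · rintro ⟨y, rfl⟩
    exact S.pow_smul_coord y.2 b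

theorem range_proj (i b : ℕ) : (S.proj i b).range = (S.Del i b).ker := by
  ext z
  constructor
  · rintro ⟨x, rfl⟩
    refine Subtype.ext (funext fun a => ?_)
    exact (S.exact₃ i a b (a + b) (Nat.le_add_left b a) rfl _).2 ⟨x.1 (a + b), S.red_mem x.2 _⟩
  · intro hz
    obtain ⟨x, hx⟩ := S.exists_lift z (fun a => congrFun (congrArg Subtype.val hz) a)
    exact ⟨x, hx⟩

theorem range_Del (i b : ℕ) : (S.Del i b).range = (mulHom (S.T (i + 1)) ((ℓ : ℤ) ^ b)).ker := by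
  ext w
  constructor
  · rintro ⟨z, rfl⟩
    have h2 : (mulHom (S.T (i + 1)) ((ℓ : ℤ) ^ b)) (S.Del i b z) = S.Del i b (((ℓ : ℤ) ^ b) • z) := by
      rw [mulHom_apply, map_zsmul]
    refine Subtype.ext (funext fun a => ?_)
    change ((ℓ : ℤ) ^ b) • S.del i a b z = 0
    have h3 : S.del i a b z = S.red (i + 1) (Nat.le_add_right a b) (S.del i (a + b) b z) := (S.red_del i _ b z).symm
    rw [h3, ← map_zsmul, ← S.mul_red (i + 1) a b (a + b) (Nat.le_add_right a b) rfl, S.red_del]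
    have h4 := (S.exact₁ i a b (a + b) (Nat.le_add_right a b) rfl (S.del i a b z)).2 ⟨z, rfl⟩
    rw [h4, map_zero]
  · intro hw
    rw [AddMonoidHom.mem_ker, mulHom_apply] at hw
    let F : ℕ → Type w := fun a => {z : S.A i b // S.del i a b z = w.1 a}
    have hne : ∀ a, Nonempty (F a) := fun a => by
      have h1 : S.mul (i + 1) (Nat.le_add_right a b) (w.1 a) = 0 := by
        rw [← S.red_mem w.2 (Nat.le_add_right a b), S.mul_red (i + 1) a b (a + b) (Nat.le_add_right a b) rfl]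
        exact congrFun (congrArg Subtype.val hw) (a + b)
      obtain ⟨z, hz⟩ := (S.exact₁ i a b (a + b) (Nat.le_add_right a b) rfl _).1 h1
      exact ⟨⟨z, hz⟩⟩
    have hfin : ∀ a, Finite (F a) := fun a => Subtype.finite
    obtain ⟨z, hz⟩ := exists_seq F (fun a y => ⟨y.1, by
      rw [← S.red_del i (Nat.le_succ a), y.2]
      exact w.2 a⟩)
    have hc : ∀ a, (z a).1 = (z 0).1 := by
      intro a
      induction a with
      | zero => rfl
      | succ a ih => rw [← ih]; exact congrArg Subtype.val (hz a)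
    refine ⟨(z 0).1, Subtype.ext (funext fun a => ?_)⟩
    rw [← hc a]
    exact (z a).2

/-- **Universal coefficients**, numerically. -/
theorem card_eq (i b : ℕ) : Nat.card (S.A i b) = c (S.T i) ℓ b * k (S.T (i + 1)) ℓ b := by
  unfold c k
  rw [← ker_proj, ← range_Del, AddSubgroup.index_ker, range_proj]
  rw [← AddSubgroup.card_mul_index (S.Del i b).ker, AddSubgroup.index_ker]

theorem k_zero_eq_one (b : ℕ) : k (S.T 0) ℓ b = 1 := by
  unfold k
  rw [Nat.card_eq_one_iff_unique]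
  refine ⟨⟨fun x y => ?_⟩, ⟨0⟩⟩
  have h : ∀ x : (mulHom (S.T 0) ((ℓ : ℤ) ^ b)).ker, x = 0 := by
    rintro ⟨x, hx⟩
    rw [AddMonoidHom.mem_ker, mulHom_apply] at hx
    refine Subtype.ext (Subtype.ext (funext fun a => ?_))
    apply S.mul_zero_injective (Nat.le_add_right a b)
    change S.mul 0 (Nat.le_add_right a b) (x.1 a) = S.mul 0 (Nat.le_add_right a b) 0
    rw [map_zero, ← S.red_mem x.2 (Nat.le_add_right a b), S.mul_red 0 a b (a + b) (Nat.le_add_right a b) rfl]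
    exact congrFun (congrArg Subtype.val hx) (a + b)
  rw [h x, h y]

theorem k_ne_zero (i b : ℕ) : k (S.T i) ℓ b ≠ 0 := by
  cases i with
  | zero => rw [k_zero_eq_one]; exact one_ne_zero
  | succ i =>
    intro h
    have h1 := S.card_eq i b
    rw [h, mul_zero] at h1
    exact Nat.card_pos.ne' h1

theorem c_ne_zero (i b : ℕ) : c (S.T i) ℓ b ≠ 0 := by
  intro h
  have h1 := S.card_eq i b
  rw [h, zero_mul] at h1
  exact Nat.card_pos.ne' h1

/-- the Betti number -/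
noncomputable def betti (i : ℕ) : ℕ :=
  Nat.log ℓ (Nat.card (S.T i ⧸ (mulHom (S.T i) (ℓ : ℤ)).range)) - Nat.log ℓ (Nat.card (mulHom (S.T i) (ℓ : ℤ)).ker)

variable [hℓ : Fact ℓ.Prime]

theorem asymp (i : ℕ) : ∃ B C : ℕ, 0 < C ∧ ∀ b, B ≤ b → k (S.T i) ℓ b = C ∧
    c (S.T i) ℓ b = ℓ ^ (S.betti i * b) * C := by
  refine Herbrand.main (T := S.T i) ?_ ?_ ?_
  · have h := S.k_ne_zero i 1
    rw [k_one] at h
    exact Nat.finite_of_card_ne_zero h
  · have h := S.c_ne_zero i 1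
    rwa [c_one] at h
  · intro x hx
    refine Subtype.ext (funext fun b => ?_)
    obtain ⟨y, rfl⟩ := hx b
    exact S.pow_smul_coord y.2 b

/-- **growth**: `#A i b = ℓ ^ (betti i * b) * C` for large `b`. -/
theorem card_asymp (i : ℕ) : ∃ B C : ℕ, 0 < C ∧ ∀ b, B ≤ b → Nat.card (S.A i b) = ℓ ^ (S.betti i * b) * C := by
  obtain ⟨B, C, hC, h⟩ := S.asymp i
  obtain ⟨B', C', hC', h'⟩ := S.asymp (i + 1)
  refine ⟨max B B', C * C', Nat.mul_pos hC hC', fun b hb => ?_⟩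
  rw [S.card_eq, (h b (le_of_max_le_left hb)).2, (h' b (le_of_max_le_right hb)).1, mul_assoc]

/-- growth, in the form of ratios -/
theorem card_succ (i : ℕ) : ∃ B : ℕ, ∀ b, B ≤ b → Nat.card (S.A i (b + 1)) = ℓ ^ S.betti i * Nat.card (S.A i b) := by
  obtain ⟨B, C, hC, h⟩ := S.card_asymp i
  refine ⟨B, fun b hb => ?_⟩
  rw [h b hb, h (b + 1) (by omega)]
  ring

/-- `#(T_i/ℓ) = ℓ ^ betti i * #T_i[ℓ]`. -/
theorem c_one_eq (i : ℕ) : c (S.T i) ℓ 1 = ℓ ^ S.betti i * k (S.T i) ℓ 1 := by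
  obtain ⟨B, C, hC, h⟩ := S.asymp i
  have hfin1 : Finite (S.T i ⧸ (mulHom (S.T i) (ℓ : ℤ)).range) := Nat.finite_of_card_ne_zero (by
    have h := S.c_ne_zero i 1
    rwa [c_one] at h)
  have hfin2 : Finite (mulHom (S.T i) (ℓ : ℤ)).ker := Nat.finite_of_card_ne_zero (by
    have h := S.k_ne_zero i 1
    rwa [k_one] at h)
  obtain ⟨x, hx⟩ := exists_card_eq_pow (ℓ := ℓ) (A := S.T i ⧸ (mulHom (S.T i) (ℓ : ℤ)).range) (by
    intro a
    obtain ⟨t, rfl⟩ := QuotientAddGroup.mk_surjective a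
    rw [← QuotientAddGroup.mk_nsmul, QuotientAddGroup.eq_zero_iff]
    exact ⟨t, by rw [mulHom_apply, natCast_zsmul]⟩)
  obtain ⟨y, hy⟩ := exists_card_eq_pow (ℓ := ℓ) (A := (mulHom (S.T i) (ℓ : ℤ)).ker) (by
    rintro ⟨t, ht⟩
    rw [AddMonoidHom.mem_ker, mulHom_apply, natCast_zsmul] at ht
    exact Subtype.ext ht)
  have hc : c (S.T i) ℓ 1 = ℓ ^ x := by rw [c_one]; exact hx
  have hk : k (S.T i) ℓ 1 = ℓ ^ y := by rw [k_one]; exact hy
  have hb : S.betti i = x - y := by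
    unfold betti
    rw [hx, hy, Nat.log_pow hℓ.out.one_lt, Nat.log_pow hℓ.out.one_lt]
  have hrel := relation hc hk (S.k_ne_zero i)
  -- `y ≤ x`
  have hxy : y ≤ x := by
    by_contra hlt
    push Not at hlt
    have hb0 : S.betti i = 0 := by rw [hb]; omega
    have h1 := hrel (B + 1)
    obtain ⟨hk1, hc1⟩ := h (B + 1) (by omega)
    rw [hb0, zero_mul, pow_zero, one_mul] at hc1
    rw [hc1, hk1, mul_comm] at h1
    have h2 := Nat.eq_of_mul_eq_mul_right hC h1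
    have h3 := Nat.pow_right_injective hℓ.out.two_le h2
    have h4 := Nat.eq_of_mul_eq_mul_right (Nat.succ_pos B) h3
    omega
  rw [hc, hk, hb, ← pow_add, Nat.sub_add_cancel hxy]

/-- order of `A i 1`, exactly -/
theorem card_one (i : ℕ) : Nat.card (S.A i 1) = ℓ ^ S.betti i * (k (S.T i) ℓ 1 * k (S.T (i + 1)) ℓ 1) := by
  rw [S.card_eq, S.c_one_eq, mul_assoc]

theorem exists_k_one (i : ℕ) : ∃ y, k (S.T i) ℓ 1 = ℓ ^ y := by
  have hfin2 : Finite (mulHom (S.T i) (ℓ : ℤ)).ker := Nat.finite_of_card_ne_zero (by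
    have h := S.k_ne_zero i 1
    rwa [k_one] at h)
  obtain ⟨y, hy⟩ := exists_card_eq_pow (ℓ := ℓ) (A := (mulHom (S.T i) (ℓ : ℤ)).ker) (by
    rintro ⟨t, ht⟩
    rw [AddMonoidHom.mem_ker, mulHom_apply, natCast_zsmul] at ht
    exact Subtype.ext ht)
  exact ⟨y, by rw [k_one]; exact hy⟩

omit hℓ in
/-- `T_i[ℓ] = 0` if `A i ν = 0` for all `ν`. -/
theorem k_eq_one_of_subsingleton (i : ℕ) (h : ∀ ν, Subsingleton (S.A i ν)) (b : ℕ) : k (S.T i) ℓ b = 1 := by
  unfold k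
  rw [Nat.card_eq_one_iff_unique]
  refine ⟨⟨fun x y => Subtype.ext (Subtype.ext (funext fun a => ?_))⟩, ⟨0⟩⟩
  have := h a
  exact Subsingleton.elim _ _

/-- the `ℓ`-power torsion of `T_i` is killed by a fixed power of `ℓ` -/
theorem exists_tors (i : ℕ) : ∃ B : ℕ, ∀ (s : ℕ) (x : S.T i), ((ℓ : ℤ) ^ s) • x = 0 → ((ℓ : ℤ) ^ B) • x = 0 := by
  obtain ⟨B, C, hC, h⟩ := S.asymp i
  refine ⟨B, fun s x hx => ?_⟩
  have hle : (mulHom (S.T i) ((ℓ : ℤ) ^ B)).ker ≤ (mulHom (S.T i) ((ℓ : ℤ) ^ (max B s))).ker := by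
    intro y hy
    rw [AddMonoidHom.mem_ker, mulHom_apply] at hy ⊢
    rw [← Nat.add_sub_cancel' (le_max_left B s), pow_add, mul_comm, ← smul_smul, hy, smul_zero]
  have hcard : Nat.card (mulHom (S.T i) ((ℓ : ℤ) ^ (max B s))).ker = Nat.card (mulHom (S.T i) ((ℓ : ℤ) ^ B)).ker :=
    ((h (max B s) (le_max_left _ _)).1).trans ((h B le_rfl).1).symm
  have hfin : Finite (mulHom (S.T i) ((ℓ : ℤ) ^ (max B s))).ker := Nat.finite_of_card_ne_zero (S.k_ne_zero i _)
  have heq : (mulHom (S.T i) ((ℓ : ℤ) ^ B)).ker = (mulHom (S.T i) ((ℓ : ℤ) ^ (max B s))).ker := by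
    apply SetLike.coe_injective
    exact Set.eq_of_subset_of_ncard_le hle
      (by rw [← Nat.card_coe_set_eq, ← Nat.card_coe_set_eq]; exact hcard.le)
      (Set.toFinite _)
  have hmem : x ∈ (mulHom (S.T i) ((ℓ : ℤ) ^ (max B s))).ker := by
    rw [AddMonoidHom.mem_ker, mulHom_apply, ← Nat.add_sub_cancel' (le_max_right B s), pow_add, mul_comm, ← smul_smul,
      hx, smul_zero]
  rw [← heq] at hmem
  exact hmem

/-- (G2) up to a fixed power of `ℓ`, every class lifts to the limit. -/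
theorem exists_lift_pow (i : ℕ) : ∃ B : ℕ, ∀ (b : ℕ) (z : S.A i b), ∃ x : S.T i, x.1 b = ((ℓ : ℤ) ^ B) • z := by
  obtain ⟨B, hB⟩ := S.exists_tors (i + 1)
  refine ⟨B, fun b z => ?_⟩
  have h1 : S.Del i b z ∈ (mulHom (S.T (i + 1)) ((ℓ : ℤ) ^ b)).ker := by
    rw [← range_Del]
    exact ⟨z, rfl⟩
  have h2 := hB b _ h1
  rw [← map_zsmul] at h2
  have h3 : ((ℓ : ℤ) ^ B) • z ∈ (S.proj i b).range := by
    rw [range_proj]
    exact h2
  exact h3

omit hℓ in
theorem pow_smul_eq_zero (i b : ℕ) (z : S.A i b) : ((ℓ : ℤ) ^ b) • z = 0 := by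
  -- `z` need not lift to the limit, but `mul ∘ red = ℓ ^ b` on `A i b` with `a = 0`
  have h0 : S.mul i (Nat.zero_le b) (S.red i (Nat.zero_le b) z) = ((ℓ : ℤ) ^ b) • z :=
    S.mul_red i 0 b b (Nat.zero_le b) (Nat.zero_add b) z
  rw [← h0]
  -- `A i 0` is killed by `ℓ ^ 0 = 1`: `red 0 0 = id`, `mul 0 0`
  have h1 : ∀ y : S.A i 0, S.mul i (Nat.zero_le b) y = 0 := by
    intro y
    -- exactness of `mul : A i 0 → A i b` followed by `red = id : A i b → A i b`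
    have h2 := (S.exact₂ i 0 b b (Nat.zero_le b) le_rfl (Nat.zero_add b) (S.mul i (Nat.zero_le b) y)).2 ⟨y, rfl⟩
    have h3 : ∀ w : S.A i b, S.red i le_rfl w = 0 → w = 0 := by
      intro w hw
      obtain ⟨y', hy'⟩ := (S.exact₂ i 0 b b (Nat.zero_le b) le_rfl (Nat.zero_add b) w).1 hw
      -- `mul (red w) = w` with `b = 0`
      have h4 := S.mul_red i b 0 b le_rfl (Nat.add_zero b) w
      rw [hw, map_zero, pow_zero, one_smul] at h4
      exact h4.symm
    exact h3 _ h2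
  exact h1 _

/-- (G3) the torsion of `T_i` is killed by a fixed power of `ℓ` -/
theorem exists_torsion (i : ℕ) : ∃ B : ℕ, ∀ (N : ℕ) (x : S.T i), 0 < N → N • x = 0 → ((ℓ : ℤ) ^ B) • x = 0 := by
  obtain ⟨B, hB⟩ := S.exists_tors i
  refine ⟨B, fun N x hN hx => ?_⟩
  obtain ⟨s, N', hN', rfl⟩ := Nat.exists_eq_pow_mul_and_not_dvd hN.ne' ℓ hℓ.out.ne_one
  apply hB s
  refine Subtype.ext (funext fun b => ?_)
  change ((ℓ : ℤ) ^ s) • x.1 b = 0
  have h1 : ((ℓ : ℤ) ^ b) • (((ℓ : ℤ) ^ s) • x.1 b) = 0 := S.pow_smul_eq_zero i b _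
  have h2 : (N' : ℤ) • (((ℓ : ℤ) ^ s) • x.1 b) = 0 := by
    have h3 : (ℓ ^ s * N') • x.1 b = 0 := congrFun (congrArg Subtype.val hx) b
    rw [← natCast_zsmul] at h3
    rw [smul_smul, mul_comm]
    push_cast at h3
    exact h3
  have hcop : IsCoprime ((ℓ : ℤ) ^ b) (N' : ℤ) := by
    apply IsCoprime.pow_left
    rw [Nat.isCoprime_iff_coprime]
    exact (Nat.Prime.coprime_iff_not_dvd hℓ.out).2 hN'
  obtain ⟨u, v, huv⟩ := hcop
  calc ((ℓ : ℤ) ^ s) • x.1 b = (u * (ℓ : ℤ) ^ b + v * N') • (((ℓ : ℤ) ^ s) • x.1 b) := by rw [huv, one_smul]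
    _ = 0 := by rw [add_smul, mul_smul, mul_smul, h1, h2, smul_zero, smul_zero, add_zero]

/-- general order formula `#T_i/ℓ^b = ℓ^(betti b) #T_i[ℓ^b]`. -/
theorem c_eq_pow (i b : ℕ) : c (S.T i) ℓ b = ℓ ^ (S.betti i * b) * k (S.T i) ℓ b := by
  obtain ⟨y, hy⟩ := S.exists_k_one i
  have hc : c (S.T i) ℓ 1 = ℓ ^ (S.betti i + y) := by rw [S.c_one_eq, hy, pow_add]
  have hrel := relation hc hy (S.k_ne_zero i) b
  apply Nat.eq_of_mul_eq_mul_right (pow_pos hℓ.out.pos (y * b))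
  rw [hrel]; ring

theorem exists_k (i b : ℕ) : ∃ y, k (S.T i) ℓ b = ℓ ^ y := by
  have hfin2 : Finite (mulHom (S.T i) ((ℓ : ℤ) ^ b)).ker := Nat.finite_of_card_ne_zero (S.k_ne_zero i b)
  have hdvd : ∀ b, k (S.T i) ℓ (b + 1) ∣ k (S.T i) ℓ b * k (S.T i) ℓ 1 := by
    intro b
    rw [k_succ, k_one, ← card_inf ℓ b]
    exact Nat.mul_dvd_mul_left _ (Dvd.intro _ rfl)
  obtain ⟨y, hy⟩ := S.exists_k_one i
  have h : ∀ b, k (S.T i) ℓ b ∣ ℓ ^ (y * b) := by
    intro b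
    induction b with
    | zero => rw [k_zero]; exact one_dvd _
    | succ b ih =>
      refine (hdvd b).trans ?_
      rw [hy, Nat.mul_succ, pow_add]
      exact Nat.mul_dvd_mul_right ih _
  obtain ⟨z, -, hz⟩ := (Nat.dvd_prime_pow hℓ.out).1 (h b)
  exact ⟨z, hz⟩

/-- (G1) `#A i b = ℓ ^ (betti i * b + e)` with bounded `e`. -/
theorem card_bounded (i : ℕ) : ∃ C : ℕ, ∀ b, ∃ e, e ≤ C ∧ Nat.card (S.A i b) = ℓ ^ (S.betti i * b + e) := by
  have hb : ∀ i, ∃ C : ℕ, ∀ b, ∃ e, e ≤ C ∧ k (S.T i) ℓ b = ℓ ^ e := by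
    intro i
    obtain ⟨B, C, hC, h⟩ := S.asymp i
    choose y hy using S.exists_k i
    refine ⟨(Finset.range (B + 1)).sup y, fun b => ⟨y b, ?_, hy b⟩⟩
    by_cases hbB : b ≤ B
    · exact Finset.le_sup (Finset.mem_range.2 (by omega))
    · have h1 := (h b (by omega)).1
      have h2 := (h B le_rfl).1
      rw [← h2, hy, hy] at h1
      rw [Nat.pow_right_injective hℓ.out.two_le h1]
      exact Finset.le_sup (Finset.mem_range.2 (by omega))
  obtain ⟨C1, h1⟩ := hb i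
  obtain ⟨C2, h2⟩ := hb (i + 1)
  refine ⟨C1 + C2, fun b => ?_⟩
  obtain ⟨e1, he1, hk1⟩ := h1 b
  obtain ⟨e2, he2, hk2⟩ := h2 b
  refine ⟨e1 + e2, by omega, ?_⟩
  rw [S.card_eq, S.c_eq_pow, hk1, hk2]
  ring

/-- **Euler characteristics**: the alternating sum of Betti numbers is the alternating sum of `log_ℓ #A i 1`, when
`A (N + 1) ν = 0` for all `ν`. -/
theorem euler_eq (N : ℕ) (h : ∀ ν, Subsingleton (S.A (N + 1) ν)) :
    ∑ i ∈ Finset.range (N + 1), (-1 : ℤ) ^ i * (S.betti i : ℤ) =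
      ∑ i ∈ Finset.range (N + 1), (-1 : ℤ) ^ i * (Nat.log ℓ (Nat.card (S.A i 1)) : ℤ) := by
  choose y hy using S.exists_k_one
  have h0 : y 0 = 0 := by
    have h1 := S.k_zero_eq_one 1
    rw [hy 0] at h1
    exact (Nat.pow_eq_one.1 h1).resolve_left hℓ.out.one_lt.ne'
  have hN : y (N + 1) = 0 := by
    have h1 := S.k_eq_one_of_subsingleton (N + 1) h 1
    rw [hy (N + 1)] at h1
    exact (Nat.pow_eq_one.1 h1).resolve_left hℓ.out.one_lt.ne'
  have h1 : ∀ i, (Nat.log ℓ (Nat.card (S.A i 1)) : ℤ) = S.betti i + (y i + y (i + 1)) := by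
    intro i
    rw [S.card_one, hy i, hy (i + 1), ← pow_add, ← pow_add, Nat.log_pow hℓ.out.one_lt]
    push_cast
    rfl
  have h2 : ∀ M : ℕ, ∑ i ∈ Finset.range (M + 1), (-1 : ℤ) ^ i * ((y i : ℤ) + y (i + 1)) = y 0 + (-1) ^ M * y (M + 1) := by
    intro M
    induction M with
    | zero => simp
    | succ M ih =>
      rw [Finset.sum_range_succ, ih, pow_succ]
      ring
  calc ∑ i ∈ Finset.range (N + 1), (-1 : ℤ) ^ i * (S.betti i : ℤ)
      = ∑ i ∈ Finset.range (N + 1), (-1 : ℤ) ^ i * (S.betti i : ℤ) +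
        ∑ i ∈ Finset.range (N + 1), (-1 : ℤ) ^ i * ((y i : ℤ) + y (i + 1)) := by
          rw [h2 N, h0, hN]; simp
    _ = _ := by
      rw [← Finset.sum_add_distrib]
      refine Finset.sum_congr rfl fun i _ => ?_
      rw [h1 i]; ring

end Sys

section Unbundled

variable (ℓ : ℕ) (A : ℕ → ℕ → Type w) [grp : ∀ i ν, AddCommGroup (A i ν)]
  (red : ∀ (i a b : ℕ), a ≤ b → (A i b →+ A i a))
  (mul : ∀ (i a b : ℕ), a ≤ b → (A i a →+ A i b))
  (del : ∀ (i a b : ℕ), A i b →+ A (i + 1) a)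

/-- the inverse limit, unbundled form -/
def T' (i : ℕ) : AddSubgroup (∀ ν, A i ν) where
  carrier := {x | ∀ ν, red i ν (ν + 1) (Nat.le_succ ν) (x (ν + 1)) = x ν}
  add_mem' := fun {x y} hx hy ν => by
    simp only [Pi.add_apply, map_add]
    rw [hx ν, hy ν]
  zero_mem' := fun ν => by simp
  neg_mem' := fun {x} hx ν => by
    simp only [Pi.neg_apply, map_neg]
    rw [hx ν]

/-- the Betti number, unbundled form -/
noncomputable def betti' (i : ℕ) : ℕ :=
  Nat.log ℓ (Nat.card (T' A red i ⧸ (mulHom (T' A red i) (ℓ : ℤ)).range)) -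
    Nat.log ℓ (Nat.card (mulHom (T' A red i) (ℓ : ℤ)).ker)

/-- The axioms of a `Sys`, unbundled. -/
structure IsSys : Prop where
  fin : ∀ i ν, Finite (A i ν)
  red_red : ∀ (i a b c : ℕ) (h : a ≤ b) (h' : b ≤ c) (x : A i c),
    red i a b h (red i b c h' x) = red i a c (h.trans h') x
  exact₂ : ∀ (i a b : ℕ), Function.Exact (mul i a (a + b) (Nat.le_add_right a b)) (red i b (a + b) (Nat.le_add_left b a))
  exact₃ : ∀ (i a b : ℕ), Function.Exact (red i b (a + b) (Nat.le_add_left b a)) (del i a b)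
  exact₁ : ∀ (i a b : ℕ), Function.Exact (del i a b) (mul (i + 1) a (a + b) (Nat.le_add_right a b))
  red_del : ∀ (i a a' : ℕ) (h : a ≤ a') (b : ℕ) (x : A i b), red (i + 1) a a' h (del i a' b x) = del i a b x
  red_mul : ∀ (i a a' b : ℕ) (h : a ≤ a') (x : A i a'),
    red i (a + b) (a' + b) (Nat.add_le_add_right h b) (mul i a' (a' + b) (Nat.le_add_right a' b) x) =
      mul i a (a + b) (Nat.le_add_right a b) (red i a a' h x)
  mul_red : ∀ (i a b : ℕ) (x : A i (a + b)),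
    mul i a (a + b) (Nat.le_add_right a b) (red i a (a + b) (Nat.le_add_right a b) x) = ((ℓ : ℤ) ^ b) • x
  mul_zero_injective : ∀ (a c : ℕ) (h : a ≤ c), Function.Injective (mul 0 a c h)

variable {ℓ A red mul del} (h : IsSys ℓ A red mul del)

/-- the bundled system -/
def IsSys.toSys : Sys.{w} ℓ where
  A := A
  grp := grp
  fin := h.fin
  red i {a b} hab := red i a b hab
  mul i {a b} hab := mul i a b hab
  del := del
  red_red i {a b c} h1 h2 x := h.red_red i a b c h1 h2 x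
  exact₂ i a b c ha hb hc x := by
    subst hc
    exact h.exact₂ i a b x
  exact₃ i a b c hb hc x := by
    subst hc
    exact h.exact₃ i a b x
  exact₁ i a b c ha hc x := by
    subst hc
    exact h.exact₁ i a b x
  red_del i {a a'} h1 b x := h.red_del i a a' h1 b x
  red_mul i a a' b c c' ha ha' h1 hc e e' x := by
    subst e e'
    exact h.red_mul i a a' b h1 x
  mul_red i a b c ha e x := by
    subst e
    exact h.mul_red i a b x
  mul_zero_injective {a c} h1 := h.mul_zero_injective a c h1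

include h in
theorem IsSys.card_asymp [Fact ℓ.Prime] (i : ℕ) : ∃ B C : ℕ, 0 < C ∧ ∀ b, B ≤ b →
    Nat.card (A i b) = ℓ ^ (betti' ℓ A red i * b) * C :=
  h.toSys.card_asymp i

include h in
theorem IsSys.card_succ [Fact ℓ.Prime] (i : ℕ) : ∃ B : ℕ, ∀ b, B ≤ b →
    Nat.card (A i (b + 1)) = ℓ ^ betti' ℓ A red i * Nat.card (A i b) :=
  h.toSys.card_succ i

include h in
theorem IsSys.card_bounded [Fact ℓ.Prime] (i : ℕ) : ∃ C : ℕ, ∀ b, ∃ e, e ≤ C ∧
    Nat.card (A i b) = ℓ ^ (betti' ℓ A red i * b + e) :=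
  h.toSys.card_bounded i

include h in
theorem IsSys.exists_lift_pow [Fact ℓ.Prime] (i : ℕ) : ∃ B : ℕ, ∀ (b : ℕ) (z : A i b),
    ∃ x : T' A red i, x.1 b = ((ℓ : ℤ) ^ B) • z :=
  h.toSys.exists_lift_pow i

include h in
theorem IsSys.exists_torsion [Fact ℓ.Prime] (i : ℕ) : ∃ B : ℕ, ∀ (N : ℕ) (x : T' A red i), 0 < N → N • x = 0 →
    ((ℓ : ℤ) ^ B) • x = 0 :=
  h.toSys.exists_torsion i

include h in
theorem IsSys.pow_smul_eq_zero (i b : ℕ) (z : A i b) : ((ℓ : ℤ) ^ b) • z = 0 :=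
  h.toSys.pow_smul_eq_zero i b z

include h in
theorem IsSys.euler_eq [Fact ℓ.Prime] (N : ℕ) (hN : ∀ ν, Subsingleton (A (N + 1) ν)) :
    ∑ i ∈ Finset.range (N + 1), (-1 : ℤ) ^ i * (betti' ℓ A red i : ℤ) =
      ∑ i ∈ Finset.range (N + 1), (-1 : ℤ) ^ i * (Nat.log ℓ (Nat.card (A i 1)) : ℤ) :=
  h.toSys.euler_eq N hN

include h in
/-- universal coefficients -/
theorem IsSys.card_eq (i b : ℕ) : Nat.card (A i b) = c (T' A red i) ℓ b * k (T' A red (i + 1)) ℓ b :=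
  h.toSys.card_eq i b

end Unbundled

section Generic

variable (ℓ : ℕ) (G : ℕ → Type w) [∀ ν, AddCommGroup (G ν)] (ρ : ∀ ν, G (ν + 1) →+ G ν)

/-- inverse limit of a sequence, in the form used by `EtAdic.Hl` -/
noncomputable def HlG : AddSubgroup (∀ ν : ℕ, G ν) :=
  ⨅ ν : ℕ, ((ρ ν).comp (Pi.evalAddMonoidHom (fun μ => G μ) (ν + 1)) -
    Pi.evalAddMonoidHom (fun μ => G μ) ν).ker

/-- Betti number of a sequence, in the form used by `EtAdic.betti` -/
noncomputable def bettiG : ℕ :=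
  Nat.log ℓ (Nat.card (↥(HlG G ρ) ⧸ (zsmulAddGroupHom (ℓ : ℤ) : ↥(HlG G ρ) →+ ↥(HlG G ρ)).range)) -
    Nat.log ℓ (Nat.card (zsmulAddGroupHom (ℓ : ℤ) : ↥(HlG G ρ) →+ ↥(HlG G ρ)).ker)

theorem mem_HlG (x : ∀ ν : ℕ, G ν) : x ∈ HlG G ρ ↔ ∀ ν, ρ ν (x (ν + 1)) = x ν := by
  unfold HlG
  rw [AddSubgroup.mem_iInf]
  refine forall_congr' fun ν => ?_
  rw [AddMonoidHom.mem_ker, AddMonoidHom.sub_apply, sub_eq_zero, AddMonoidHom.comp_apply]
  exact Iff.rfl

variable (A : ℕ → ℕ → Type w) [grp : ∀ i ν, AddCommGroup (A i ν)]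
  (red : ∀ (i a b : ℕ), a ≤ b → (A i b →+ A i a))

theorem HlG_eq (i : ℕ) : HlG (fun ν => A i ν) (fun ν => red i ν (ν + 1) (Nat.le_succ ν)) = T' A red i := by
  ext x
  exact mem_HlG (fun ν => A i ν) (fun ν => red i ν (ν + 1) (Nat.le_succ ν)) x

theorem bettiG_eq (i : ℕ) : bettiG ℓ (fun ν => A i ν) (fun ν => red i ν (ν + 1) (Nat.le_succ ν)) = betti' ℓ A red i := by
  unfold bettiG betti'
  rw [HlG_eq]

end Generic

end Groth.Agent.Lefpen.H710.EllSys
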