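import Groth.Agent.Lefpen.H710.Betti
import Groth.Agent.Lefpen.H710.BettiFin

/-!
# Growth of the orders of `H^i(X, ℤ/ℓ^ν)` and `ℓ`-adic Betti numbers: main statements

Hypothesis throughout: `H^i(X, ℤ/ℓ)` is finite for every `i`.
-/

set_option autoImplicit false
universe u

open CategoryTheory CategoryTheory.Limits AlgebraicGeometry Opposite CategoryTheory.Abelian

namespace Groth.Agent.Lefpen.H710.Growth

open BettiSys

variable (X : Scheme.{u}) (ℓ : ℕ) [hℓ : Fact ℓ.Prime] (hfin : ∀ i, Finite (EtAdic.Hmod X ℓ i 1))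

include hfin in
theorem finite_Hmod (i ν : ℕ) : Finite (EtAdic.Hmod X ℓ i ν) := BettiFin.finite_A X ℓ hfin i ν

theorem subsingleton_Hmod (i : ℕ) (h : Subsingleton (EtAdic.Hmod X ℓ i 1)) (ν : ℕ) :
    Subsingleton (EtAdic.Hmod X ℓ i ν) := BettiFin.subsingleton_A X ℓ i h ν

include hfin in
/-- `#H^i(X, ℤ/ℓ^b) = ℓ^(betti · b) C` for `b ≥ B`. -/
theorem card_asymp (i : ℕ) : ∃ B C : ℕ, 0 < C ∧ ∀ b, B ≤ b →
    Nat.card (EtAdic.Hmod X ℓ i b) = ℓ ^ (EtAdic.betti X ℓ i * b) * C := by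
  rw [Betti.betti_eq]
  exact (isSys (BettiFin.finite_A X ℓ hfin)).card_asymp i

include hfin in
theorem card_succ (i : ℕ) : ∃ B : ℕ, ∀ b, B ≤ b →
    Nat.card (EtAdic.Hmod X ℓ i (b + 1)) = ℓ ^ EtAdic.betti X ℓ i * Nat.card (EtAdic.Hmod X ℓ i b) := by
  rw [Betti.betti_eq]
  exact (isSys (BettiFin.finite_A X ℓ hfin)).card_succ i

include hfin in
/-- (G1) -/
theorem card_bounded (i : ℕ) : ∃ C : ℕ, ∀ ν, ∃ e, e ≤ C ∧
    Nat.card (EtAdic.Hmod X ℓ i ν) = ℓ ^ (EtAdic.betti X ℓ i * ν + e) := by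
  rw [Betti.betti_eq]
  exact (isSys (BettiFin.finite_A X ℓ hfin)).card_bounded i

include hfin in
/-- `ℓ`-adic and mod `ℓ` Euler characteristics agree. -/
theorem euler_eq (N : ℕ) (h : Subsingleton (EtAdic.Hmod X ℓ (N + 1) 1)) :
    EtAdic.euler X ℓ N = ∑ i ∈ Finset.range (N + 1), (-1 : ℤ) ^ i * (Nat.log ℓ (Nat.card (EtAdic.Hmod X ℓ i 1)) : ℤ) := by
  unfold EtAdic.euler
  simp only [Betti.betti_eq]
  exact (isSys (BettiFin.finite_A X ℓ hfin)).euler_eq N (BettiFin.subsingleton_A X ℓ (N + 1) h)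

include hfin in
theorem betti_eq_zero (i : ℕ) (h : Subsingleton (EtAdic.Hmod X ℓ i 1)) : EtAdic.betti X ℓ i = 0 := by
  obtain ⟨B, hB⟩ := card_succ X ℓ hfin i
  have h1 := hB B le_rfl
  have h2 := subsingleton_Hmod X ℓ i h B
  have h3 := subsingleton_Hmod X ℓ i h (B + 1)
  rw [Nat.card_unique, Nat.card_unique, mul_one] at h1
  exact (Nat.pow_eq_one.1 h1.symm).resolve_left hℓ.out.one_lt.ne'

end Groth.Agent.Lefpen.H710.Growth
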