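import Groth.Agent.Lefpen.H710.Growth

/-!
# Lifting to the `ℓ`-adic cohomology and its torsion, up to bounded powers of `ℓ`

* `exists_lift_pow` (G2), `exists_torsion` (G3), `pow_smul_eq_zero`, `red_surj`.
-/

set_option autoImplicit false
universe u

open CategoryTheory CategoryTheory.Limits AlgebraicGeometry Opposite CategoryTheory.Abelian

namespace Groth.Agent.Lefpen.H710.Growth2

open BettiSys

theorem cast_smul {P : Type*} [AddCommGroup P] (ℓ b : ℕ) (x : P) : ((ℓ : ℤ) ^ b) • x = (ℓ ^ b) • x := by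
  rw [← natCast_zsmul]
  push_cast
  rfl

variable (X : Scheme.{u}) (ℓ : ℕ)

variable [hℓ : Fact ℓ.Prime] (hfin : ∀ i, Finite (EtAdic.Hmod X ℓ i 1))

theorem pow_smul_eq_zero (hfin : ∀ i, Finite (EtAdic.Hmod X ℓ i 1)) (i b : ℕ) (z : EtAdic.Hmod X ℓ i b) :
    (ℓ ^ b) • z = 0 := by
  rw [← cast_smul]
  exact (isSys (BettiFin.finite_A X ℓ hfin)).pow_smul_eq_zero i b z

include hfin in
/-- (G2) up to a fixed power of `ℓ`, every class in `H^i(X, ℤ/ℓ^ν)` lifts to `H^i(X, ℤ_ℓ)`. -/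
theorem exists_lift_pow (i : ℕ) : ∃ B : ℕ, ∀ (ν : ℕ) (z : EtAdic.Hmod X ℓ i ν),
    ∃ x ∈ EtAdic.Hl X ℓ i, x ν = (ℓ ^ B) • z := by
  obtain ⟨B, hB⟩ := (isSys (BettiFin.finite_A X ℓ hfin)).exists_lift_pow i
  refine ⟨B, fun ν z => ?_⟩
  obtain ⟨x, hx⟩ := hB ν z
  refine ⟨x.1, (Betti.mem_Hl X ℓ i x.1).2 (fun ν => x.2 ν), ?_⟩
  rw [hx, cast_smul]

include hfin in
/-- (G3) the torsion of `H^i(X, ℤ_ℓ)` is killed by a fixed power of `ℓ`. -/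
theorem exists_torsion (i : ℕ) : ∃ B : ℕ, ∀ x ∈ EtAdic.Hl X ℓ i, ∀ N : ℕ, 0 < N → (∀ ν, N • x ν = 0) →
    ∀ ν, (ℓ ^ B) • x ν = 0 := by
  obtain ⟨B, hB⟩ := (isSys (BettiFin.finite_A X ℓ hfin)).exists_torsion i
  refine ⟨B, fun x hx N hN h ν => ?_⟩
  have hx' : x ∈ EllSys.T' (A X ℓ) (red X ℓ) i := fun ν => (Betti.mem_Hl X ℓ i x).1 hx ν
  have h1 := hB N ⟨x, hx'⟩ hN (Subtype.ext (funext h))
  rw [← cast_smul]
  exact congrFun (congrArg Subtype.val h1) ν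

end Groth.Agent.Lefpen.H710.Growth2
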