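import Mathlib.GroupTheory.Index
import Mathlib.Data.Nat.Log
import Mathlib.Algebra.Module.ZMod
import Mathlib.LinearAlgebra.Dimension.Free
import Mathlib.FieldTheory.Finiteness
import Mathlib.Algebra.Field.ZMod
import Mathlib.GroupTheory.QuotientGroup.Finite

/-!
# Herbrand quotients of multiplication by powers of a prime

For an abelian group `T` write `c b = #(T / ℓ^b T)` and `k b = # T[ℓ^b]`.
-/

set_option autoImplicit false

namespace Groth.Agent.Lefpen.H710.Herbrand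

variable {T : Type*} [AddCommGroup T]

/-- multiplication by `n` -/
abbrev mulHom (T : Type*) [AddCommGroup T] (n : ℤ) : T →+ T := zsmulAddGroupHom n

theorem mulHom_apply (n : ℤ) (x : T) : mulHom T n x = n • x := rfl

/-- order of the cokernel of multiplication by `ℓ ^ b` -/
noncomputable def c (T : Type*) [AddCommGroup T] (ℓ : ℕ) (b : ℕ) : ℕ := (mulHom T ((ℓ : ℤ) ^ b)).range.index

/-- order of the kernel of multiplication by `ℓ ^ b` -/
noncomputable def k (T : Type*) [AddCommGroup T] (ℓ : ℕ) (b : ℕ) : ℕ := Nat.card (mulHom T ((ℓ : ℤ) ^ b)).ker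

variable (ℓ : ℕ)

theorem map_range (b : ℕ) :
    (mulHom T ((ℓ : ℤ) ^ b)).range.map (mulHom T ℓ) = (mulHom T ((ℓ : ℤ) ^ (b + 1))).range := by
  ext x
  simp only [AddSubgroup.mem_map, AddMonoidHom.mem_range, exists_exists_eq_and, mulHom_apply]
  constructor
  · rintro ⟨y, rfl⟩
    exact ⟨y, by rw [smul_smul, pow_succ, mul_comm]⟩
  · rintro ⟨y, rfl⟩
    exact ⟨y, by rw [smul_smul, pow_succ, mul_comm]⟩

theorem c_succ (b : ℕ) :
    c T ℓ (b + 1) = ((mulHom T ((ℓ : ℤ) ^ b)).range ⊔ (mulHom T ℓ).ker).index * (mulHom T ℓ).range.index := by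
  unfold c
  rw [← map_range, AddSubgroup.index_map]

theorem c_one : c T ℓ 1 = (mulHom T ℓ).range.index := by
  unfold c
  rw [pow_one]

theorem k_one : k T ℓ 1 = Nat.card (mulHom T ℓ).ker := by
  unfold k
  rw [pow_one]

theorem c_eq (b : ℕ) :
    c T ℓ b = ((mulHom T ((ℓ : ℤ) ^ b)).range).relIndex (mulHom T ℓ).ker *
      ((mulHom T ((ℓ : ℤ) ^ b)).range ⊔ (mulHom T ℓ).ker).index := by
  unfold c
  rw [← AddSubgroup.relIndex_mul_index (le_sup_left : (mulHom T ((ℓ : ℤ) ^ b)).range ≤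
    (mulHom T ((ℓ : ℤ) ^ b)).range ⊔ (mulHom T ℓ).ker), sup_comm, AddSubgroup.relIndex_sup_right]

theorem k_succ (b : ℕ) :
    k T ℓ (b + 1) = k T ℓ b * Nat.card ((mulHom T ((ℓ : ℤ) ^ b)).range ⊓ (mulHom T ℓ).ker : AddSubgroup T) := by
  unfold k
  have h1 : (mulHom T ((ℓ : ℤ) ^ b)).ker ≤ (mulHom T ((ℓ : ℤ) ^ (b + 1))).ker := by
    intro x hx
    rw [AddMonoidHom.mem_ker, mulHom_apply] at hx ⊢
    rw [pow_succ, mul_comm, ← smul_smul, hx, smul_zero]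
  have h2 : (mulHom T ((ℓ : ℤ) ^ (b + 1))).ker = (mulHom T ℓ).ker.comap (mulHom T ((ℓ : ℤ) ^ b)) := by
    ext x
    rw [AddSubgroup.mem_comap, AddMonoidHom.mem_ker, AddMonoidHom.mem_ker, mulHom_apply, mulHom_apply,
      mulHom_apply, smul_smul, pow_succ, mul_comm]
  have h3 := AddSubgroup.relIndex_mul_relIndex ⊥ _ _ bot_le h1
  rw [AddSubgroup.relIndex_bot_left, AddSubgroup.relIndex_bot_left] at h3
  rw [← h3]
  congr 1
  have h4 : (mulHom T ((ℓ : ℤ) ^ b)).ker = (⊥ : AddSubgroup T).comap (mulHom T ((ℓ : ℤ) ^ b)) := by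
    rw [AddMonoidHom.comap_bot]
  rw [h2, h4, AddSubgroup.relIndex_comap, AddSubgroup.map_comap_eq, AddSubgroup.relIndex_bot_left]

theorem card_inf (b : ℕ) :
    Nat.card ((mulHom T ((ℓ : ℤ) ^ b)).range ⊓ (mulHom T ℓ).ker : AddSubgroup T) *
      ((mulHom T ((ℓ : ℤ) ^ b)).range).relIndex (mulHom T ℓ).ker = Nat.card (mulHom T ℓ).ker := by
  have h := AddSubgroup.relIndex_mul_relIndex ⊥ ((mulHom T ((ℓ : ℤ) ^ b)).range ⊓ (mulHom T ℓ).ker)
    (mulHom T ℓ).ker bot_le inf_le_right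
  rwa [AddSubgroup.relIndex_bot_left, AddSubgroup.relIndex_bot_left, AddSubgroup.inf_relIndex_right] at h

/-- multiplicativity of the Herbrand quotient -/
theorem key (b : ℕ) : c T ℓ (b + 1) * k T ℓ b * k T ℓ 1 = c T ℓ b * c T ℓ 1 * k T ℓ (b + 1) := by
  rw [c_succ, k_one, ← card_inf ℓ b, k_succ, c_one, c_eq ℓ b]
  ring

theorem c_zero : c T ℓ 0 = 1 := by
  unfold c
  rw [AddSubgroup.index_eq_one, eq_top_iff]
  intro x _
  exact ⟨x, by simp⟩

theorem k_zero : k T ℓ 0 = 1 := by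
  unfold k
  rw [Nat.card_eq_one_iff_unique]
  constructor
  · constructor
    rintro ⟨x, hx⟩ ⟨y, hy⟩
    simp [AddMonoidHom.mem_ker] at hx hy
    simp [hx, hy]
  · exact ⟨0⟩

variable {ℓ}

theorem relation {x y : ℕ} (hc : c T ℓ 1 = ℓ ^ x) (hk : k T ℓ 1 = ℓ ^ y) (hk' : ∀ b, k T ℓ b ≠ 0) (b : ℕ) :
    c T ℓ b * ℓ ^ (y * b) = ℓ ^ (x * b) * k T ℓ b := by
  induction b with
  | zero => simp [c_zero, k_zero]
  | succ b ih =>
    have h := key (T := T) ℓ b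
    rw [hc, hk] at h
    have h2 := hk' b
    apply Nat.eq_of_mul_eq_mul_left (Nat.pos_of_ne_zero h2)
    calc k T ℓ b * (c T ℓ (b + 1) * ℓ ^ (y * (b + 1)))
        = (c T ℓ (b + 1) * k T ℓ b * ℓ ^ y) * ℓ ^ (y * b) := by ring
      _ = (c T ℓ b * ℓ ^ x * k T ℓ (b + 1)) * ℓ ^ (y * b) := by rw [h]
      _ = (c T ℓ b * ℓ ^ (y * b)) * (ℓ ^ x * k T ℓ (b + 1)) := by ring
      _ = (ℓ ^ (x * b) * k T ℓ b) * (ℓ ^ x * k T ℓ (b + 1)) := by rw [ih]
      _ = k T ℓ b * (ℓ ^ (x * (b + 1)) * k T ℓ (b + 1)) := by ring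

/-- A finite abelian group killed by a prime `ℓ` has order a power of `ℓ`. -/
theorem exists_card_eq_pow [hℓ : Fact ℓ.Prime] {A : Type*} [AddCommGroup A] [Finite A] (h : ∀ a : A, ℓ • a = 0) :
    ∃ x : ℕ, Nat.card A = ℓ ^ x := by
  let inst : Module (ZMod ℓ) A := AddCommGroup.zmodModule h
  have h2 : Module.Finite (ZMod ℓ) A := Module.Finite.of_finite
  have h3 := @Module.natCard_eq_pow_finrank (ZMod ℓ) A _ _ inst h2
  refine ⟨Module.finrank (ZMod ℓ) A, ?_⟩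
  rw [h3, Nat.card_zmod]

section

variable [hℓ : Fact ℓ.Prime]

omit hℓ in
theorem ker_finite (h1 : Finite (mulHom T ℓ).ker) (b : ℕ) : Finite (mulHom T ((ℓ : ℤ) ^ b)).ker := by
  induction b with
  | zero =>
    refine Nat.finite_of_card_ne_zero ?_
    have := k_zero (T := T) ℓ
    unfold k at this
    rw [this]; exact one_ne_zero
  | succ b ih =>
    refine Nat.finite_of_card_ne_zero ?_
    have h := k_succ (T := T) ℓ b
    unfold k at h
    rw [h]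
    have : Finite ((mulHom T ((ℓ : ℤ) ^ b)).range ⊓ (mulHom T ℓ).ker : AddSubgroup T) :=
      Finite.of_injective _ (AddSubgroup.inclusion_injective (inf_le_right :
        ((mulHom T ((ℓ : ℤ) ^ b)).range ⊓ (mulHom T ℓ).ker : AddSubgroup T) ≤ _))
    exact mul_ne_zero Nat.card_pos.ne' Nat.card_pos.ne'

/-- **Main algebraic lemma**: if `T/ℓ` and `T[ℓ]` are finite and `T` has no nonzero element divisible by all
powers of `ℓ`, then for `b ≥ B`, `#(T/ℓ^b) = ℓ^(r b) C` and `#T[ℓ^b] = C` with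
`r = log_ℓ #(T/ℓ) - log_ℓ #T[ℓ]`. -/
theorem main (h1 : Finite (mulHom T ℓ).ker) (h2 : (mulHom T ℓ).range.index ≠ 0)
    (h3 : ∀ x : T, (∀ b : ℕ, x ∈ (mulHom T ((ℓ : ℤ) ^ b)).range) → x = 0) :
    ∃ B C : ℕ, 0 < C ∧ ∀ b, B ≤ b → k T ℓ b = C ∧
      c T ℓ b = ℓ ^ ((Nat.log ℓ (Nat.card (T ⧸ (mulHom T ℓ).range)) - Nat.log ℓ (Nat.card (mulHom T ℓ).ker)) * b) * C := by
  have hker := ker_finite h1
  -- powers of ℓ
  have hfin : Finite (T ⧸ (mulHom T ℓ).range) := Nat.finite_of_card_ne_zero h2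
  obtain ⟨x, hx⟩ := exists_card_eq_pow (ℓ := ℓ) (A := T ⧸ (mulHom T ℓ).range) (by
    intro a
    obtain ⟨t, rfl⟩ := QuotientAddGroup.mk_surjective a
    rw [← QuotientAddGroup.mk_nsmul, QuotientAddGroup.eq_zero_iff]
    exact ⟨t, by rw [mulHom_apply, natCast_zsmul]⟩)
  obtain ⟨y, hy⟩ := exists_card_eq_pow (ℓ := ℓ) (A := (mulHom T ℓ).ker) (by
    rintro ⟨t, ht⟩
    rw [AddMonoidHom.mem_ker, mulHom_apply, natCast_zsmul] at ht
    exact Subtype.ext ht)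
  have hc : c T ℓ 1 = ℓ ^ x := by rw [c_one]; exact hx
  have hk : k T ℓ 1 = ℓ ^ y := by rw [k_one]; exact hy
  have hk0 : ∀ b, k T ℓ b ≠ 0 := fun b => by
    have := hker b
    exact Nat.card_pos.ne'
  have hrel := relation hc hk hk0
  -- the subgroups `R_b ∩ T[ℓ]` decrease to zero
  have hB : ∃ B : ℕ, ∀ b, B ≤ b → ((mulHom T ((ℓ : ℤ) ^ b)).range ⊓ (mulHom T ℓ).ker : AddSubgroup T) = ⊥ := by
    have hmono : ∀ {a b : ℕ}, a ≤ b → (mulHom T ((ℓ : ℤ) ^ b)).range ≤ (mulHom T ((ℓ : ℤ) ^ a)).range := by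
      rintro a b hab _ ⟨t, rfl⟩
      refine ⟨((ℓ : ℤ) ^ (b - a)) • t, ?_⟩
      rw [mulHom_apply, mulHom_apply, smul_smul, ← pow_add, Nat.add_sub_cancel' hab]
    classical
    have hch : ∀ t : (mulHom T ℓ).ker, ∃ b : ℕ, t ≠ 0 → (t : T) ∉ (mulHom T ((ℓ : ℤ) ^ b)).range := by
      intro t
      by_cases ht : t = 0
      · exact ⟨0, fun h => absurd ht h⟩
      · by_contra hcon
        push Not at hcon
        apply ht
        apply Subtype.ext
        exact h3 t (fun b => (hcon b).2)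
    choose g hg using hch
    have : Fintype (mulHom T ℓ).ker := Fintype.ofFinite _
    refine ⟨Finset.univ.sup g, fun b hb => ?_⟩
    rw [eq_bot_iff]
    rintro t ⟨ht1, ht2⟩
    by_contra hne
    have hne' : (⟨t, ht2⟩ : (mulHom T ℓ).ker) ≠ 0 := fun h => hne (by simpa using congrArg Subtype.val h)
    exact hg ⟨t, ht2⟩ hne' (hmono ((Finset.le_sup (f := g) (Finset.mem_univ ⟨t, ht2⟩)).trans hb) ht1)
  obtain ⟨B, hB⟩ := hB
  have hconst : ∀ b, B ≤ b → k T ℓ b = k T ℓ B := by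
    intro b hb
    induction b, hb using Nat.le_induction with
    | base => rfl
    | succ b hb ih =>
      rw [k_succ, hB b hb, ih]
      simp
  have hxy : y ≤ x := by
    by_contra hlt
    push Not at hlt
    -- `ℓ ^ ((y - x) b) ≤ C`
    obtain ⟨d, rfl⟩ : ∃ d, y = x + (d + 1) := ⟨y - x - 1, by omega⟩
    have h5 : ∀ b, B ≤ b → ℓ ^ b ≤ k T ℓ B := by
      intro b hb
      have h := hrel b
      rw [hconst b hb] at h
      have h6 : c T ℓ b ≠ 0 := by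
        intro h0
        rw [h0, zero_mul] at h
        exact mul_ne_zero (pow_ne_zero _ hℓ.out.ne_zero) (hk0 B) h.symm
      have h7 : ℓ ^ (x * b) * (c T ℓ b * ℓ ^ ((d + 1) * b)) = ℓ ^ (x * b) * k T ℓ B := by
        rw [← h]; ring
      have h8 := Nat.eq_of_mul_eq_mul_left (pow_pos hℓ.out.pos _) h7
      rw [← h8]
      calc ℓ ^ b ≤ ℓ ^ ((d + 1) * b) := Nat.pow_le_pow_right hℓ.out.pos (by nlinarith)
        _ ≤ c T ℓ b * ℓ ^ ((d + 1) * b) := Nat.le_mul_of_pos_left _ (Nat.pos_of_ne_zero h6)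
    have h9 := h5 (B + k T ℓ B) (by omega)
    have h10 : k T ℓ B < ℓ ^ (B + k T ℓ B) :=
      lt_of_lt_of_le (Nat.lt_pow_self hℓ.out.one_lt) (Nat.pow_le_pow_right hℓ.out.pos (by omega))
    omega
  refine ⟨B, k T ℓ B, Nat.pos_of_ne_zero (hk0 B), fun b hb => ⟨hconst b hb, ?_⟩⟩
  have hlogx : Nat.log ℓ (Nat.card (T ⧸ (mulHom T ℓ).range)) = x := by
    rw [hx, Nat.log_pow hℓ.out.one_lt]
  have hlogy : Nat.log ℓ (Nat.card (mulHom T ℓ).ker) = y := by
    rw [hy, Nat.log_pow hℓ.out.one_lt]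
  rw [hlogx, hlogy]
  have h := hrel b
  rw [hconst b hb] at h
  obtain ⟨d, rfl⟩ := Nat.exists_eq_add_of_le hxy
  rw [Nat.add_sub_cancel_left]
  apply Nat.eq_of_mul_eq_mul_right (pow_pos hℓ.out.pos (y * b))
  rw [h]; ring

end

end Groth.Agent.Lefpen.H710.Herbrand
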