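import Groth.Agent.Etbc.H223.SepFin
import Groth.Agent.Etrest.ConstBasic

/-!
# Finiteness of `H^q(X, ℤ/m)` for `X` of finite type over a separably closed field, `m` invertible
-/

set_option autoImplicit false
universe u

open CategoryTheory CategoryTheory.Limits AlgebraicGeometry Opposite

namespace Groth.Agent.Lefpen.H710.SepFin

theorem isUnit_natCast (k : Type u) [Field k] (m : ℕ) (hm : (m : k) ≠ 0) :
    IsUnit (m : Γ(Spec (CommRingCat.of k), ⊤)) := by
  have h := (IsUnit.mk0 _ hm).map (Scheme.ΓSpecIso (CommRingCat.of k)).inv.hom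
  rwa [map_natCast] at h

theorem finite_H (k : Type u) [Field k] [IsSepClosed k] {X : Scheme.{u}}
    (f : X ⟶ Spec (CommRingCat.of k)) [LocallyOfFiniteType f] [QuasiCompact f]
    (m : ℕ) (hm : (m : k) ≠ 0) (q : ℕ) : Finite (EtCoh.H X (EtCoh.const X (ZMod m)) q) := by
  have hm0 : m ≠ 0 := by
    rintro rfl
    exact hm Nat.cast_zero
  have : NeZero m := ⟨hm0⟩
  have hc := Groth.Agent.S3122.result (Etbc.H223.SepFin.isRegular_spec k) (Etbc.H223.SepFin.dim_spec_le k) m
    (isUnit_natCast k m hm) f (𝟙 _) f (Category.comp_id f) (EtCoh.const X (ZMod m))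
    (Etrest.ConstBasic.isConstructible_const X (ZMod m))
    (Etrest.ConstBasic.killedBy_const X (ZMod m) m (fun a => by simp)) q
  obtain ⟨e⟩ := Groth.Agent.EtpbcB.GammaRpush.stalk_id_Rpush f (EtCoh.const X (ZMod m)) q
  have := Groth.Agent.EtpbcB.GeomPointIndep.finite_stalk_of_constructible
    (𝟙 (Spec (CommRingCat.of k))) _ hc
  exact Finite.of_equiv _ e.toEquiv

end Groth.Agent.Lefpen.H710.SepFin
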