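import Groth.Agent.EtpbcA.CdRelFin
import Groth.Agent.EtpbcB.GammaRpush
import Groth.Agent.Etrest.ConstBasic
import Groth.Agent.Lefpen.H716.CIGeom

/-!
# Vanishing of `H^q(X, ℤ/m)` for `q > 2 dim X`, `X` smooth and quasi-compact over a separably closed field
-/

set_option autoImplicit false
universe u

open CategoryTheory CategoryTheory.Limits AlgebraicGeometry Opposite

namespace Groth.Agent.Lefpen.H710.Vanish

/-- `H^q(X, ℤ/m) = 0` for `q > 2n` if `dim X ≤ n`, `X` of finite type over `k` separably closed. -/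
theorem subsingleton_H_of_dim (k : Type u) [Field k] [IsSepClosed k] (n : ℕ) {X : Scheme.{u}}
    (f : X ⟶ Spec (CommRingCat.of k)) [LocallyOfFiniteType f] [QuasiCompact f] (hn : topologicalKrullDim X ≤ n)
    (m : ℕ) (hm : 0 < m) (q : ℕ) (hq : 2 * n < q) : Subsingleton (EtCoh.H X (EtCoh.const X (ZMod m)) q) := by
  have h1 : LocallyOfFiniteType (f ≫ 𝟙 _) := by rw [Category.comp_id]; infer_instance
  have h2 : QuasiCompact (f ≫ 𝟙 _) := by rw [Category.comp_id]; infer_instance
  have hc := Groth.Agent.EtpbcA.CdRelFin.relCohDimLE_of_field (𝟙 _) f n hn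
  have hT : EtCoh.IsTorsion (EtCoh.const X (ZMod m)) :=
    Etrest.ConstBasic.isTorsion_of_killedBy hm
      (Etrest.ConstBasic.killedBy_const X (ZMod m) m (fun a => by simp))
  have hz := hc (EtCoh.const X (ZMod m)) hT q hq
  obtain ⟨e⟩ := Groth.Agent.EtpbcB.GammaRpush.gamma_Rpush f (EtCoh.const X (ZMod m)) q
  have hs := AddCommGrpCat.subsingleton_of_isZero
    ((Groth.Agent.EtpbcB.SepClosedPoint.Γtop (Spec (CommRingCat.of k))).map_isZero hz)
  exact e.symm.toEquiv.subsingleton

/-- `H^q(X, ℤ/m) = 0` for `q > 2n`, `X` quasi-compact and smooth of relative dimension `n` over `k`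
separably closed. -/
theorem subsingleton_H (k : Type u) [Field k] [IsSepClosed k] (n : ℕ) {X : Scheme.{u}}
    (f : X ⟶ Spec (CommRingCat.of k)) [SmoothOfRelativeDimension n f] [QuasiCompact f]
    (m : ℕ) (hm : 0 < m) (q : ℕ) (hq : 2 * n < q) : Subsingleton (EtCoh.H X (EtCoh.const X (ZMod m)) q) := by
  have hsm : Smooth f := SmoothOfRelativeDimension.smooth n f
  exact subsingleton_H_of_dim k n f
    (Groth.Agent.Lefpen.H716.CIGeom.topologicalKrullDim_le_of_smooth n f) m hm q hq

end Groth.Agent.Lefpen.H710.Vanish
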